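import Cfsg.Agent.FgsSix.SolvableLinear.Count
import Cfsg.Agent.Solvable.Hall

/-!
# Solvable groups containing an operator of primitive prime divisor order
-/

set_option autoImplicit false

namespace CfsgLib.FgsSix.SolvableLinear

open Module

variable {p : ℕ} [Fact p.Prime] {V : Type*} [AddCommGroup V] [Module (ZMod p) V] [Finite V]

/-- A nontrivial solvable group has a nontrivial abelian normal subgroup. -/
theorem exists_abelian_normal {G : Type*} [Group G] [Group.IsSolvable G] [Nontrivial G] :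
    ∃ A : Subgroup G, A.Normal ∧ A ≠ ⊥ ∧ ∀ a ∈ A, ∀ b ∈ A, a * b = b * a := by
  classical
  have hex : ∃ k, derivedSeries G k = ⊥ := (isSolvable_def G).1 inferInstance
  have h0 : Nat.find hex ≠ 0 := fun h => by
    have h2 := Nat.find_spec hex
    rw [h, derivedSeries_zero] at h2
    exact top_ne_bot h2
  refine ⟨derivedSeries G (Nat.find hex - 1), derivedSeries_normal G _,
    Nat.find_min hex (by omega), fun a ha b hb => ?_⟩
  have h := Nat.find_spec hex
  rw [← Nat.sub_add_cancel (Nat.pos_of_ne_zero h0), derivedSeries_succ,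
    Subgroup.commutator_eq_bot_iff_le_centralizer] at h
  exact (Subgroup.mem_centralizer_iff.1 (h ha) b hb).symm

/-- Two primes dividing the order of a solvable subgroup: a subgroup with these prime divisors
only, with elements of these orders and a nontrivial abelian normal subgroup. -/
theorem exists_two_prime (X : Subgroup (Module.End (ZMod p) V)ˣ) (hsolv : Group.IsSolvable X)
    {s t : ℕ} (hs : s.Prime) (ht : t.Prime) (hsX : s ∣ Nat.card X) (htX : t ∣ Nat.card X) :
    ∃ Y ≤ X, ∃ A ≤ Y, A ≠ ⊥ ∧ (∀ a ∈ A, ∀ b ∈ A, a * b = b * a) ∧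
      (∀ y ∈ Y, ∀ a ∈ A, y * a * y⁻¹ ∈ A) ∧
      (∀ q : ℕ, q.Prime → q ∣ Nat.card A → q = s ∨ q = t) ∧
      (∃ y ∈ Y, y ^ s = 1 ∧ y ≠ 1) ∧ ∃ z ∈ Y, z ^ t = 1 ∧ z ≠ 1 := by
  haveI := finite_end (p := p) (V := V)
  obtain ⟨H, hH1, hH2⟩ := Solvable.exists_isPiHall ({s, t} : Set ℕ) ↥X
  set Y := H.map X.subtype with hY
  have hYX : Y ≤ X := Subgroup.map_subtype_le _
  have hcard : Nat.card Y = Nat.card H := Subgroup.card_map_of_injective X.subtype_injective
  have hdiv : ∀ q ∈ ({s, t} : Set ℕ), q.Prime → q ∣ Nat.card X → q ∣ Nat.card Y := fun q hq hqp hqX => by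
    rw [← H.card_mul_index] at hqX
    rw [hcard]
    exact (hqp.dvd_mul.1 hqX).resolve_right (hH2 q hqp hq)
  have hsY := hdiv s (by simp) hs hsX
  have htY := hdiv t (by simp) ht htX
  haveI : Group.IsSolvable Y :=
    solvable_of_solvable_injective (Subgroup.inclusion_injective hYX)
  haveI : Nontrivial Y := Finite.one_lt_card_iff_nontrivial.1
    (lt_of_lt_of_le hs.one_lt (Nat.le_of_dvd Nat.card_pos hsY))
  obtain ⟨A₀, hA₀, hne, hcomm⟩ := exists_abelian_normal (G := Y)
  refine ⟨Y, hYX, A₀.map Y.subtype, Subgroup.map_subtype_le _, ?_, ?_, ?_, ?_,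
    exists_orderOf_mem Y hs hsY, exists_orderOf_mem Y ht htY⟩
  · rwa [Ne, Subgroup.map_eq_bot_iff_of_injective _ Y.subtype_injective]
  · rintro _ ⟨a, ha, rfl⟩ _ ⟨b, hb, rfl⟩
    exact congrArg Subtype.val (hcomm a ha b hb)
  · rintro y hy _ ⟨a, ha, rfl⟩
    exact ⟨⟨y, hy⟩ * a * ⟨y, hy⟩⁻¹, hA₀.conj_mem a ha _, rfl⟩
  · intro q hq hqA
    have h := hH1 q hq (hcard ▸ hqA.trans (Subgroup.card_dvd_of_le (Subgroup.map_subtype_le _)))
    simpa using h

/-- No solvable `p'`-group has elements of orders `r` and `s` for primitive prime divisors `r` of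
`p ^ n - 1` and `s > n` of `p ^ m - 1` with `m` not dividing `n`. -/
theorem not_ppd_pair (X : Subgroup (Module.End (ZMod p) V)ˣ) (hsolv : Group.IsSolvable X)
    (hcop : (Nat.card X).Coprime p) {n r m s : ℕ} (hn : finrank (ZMod p) V = n) (hn0 : n ≠ 0)
    (hr : Ppd p r n) (hs : Ppd p s m) (hm : ¬ m ∣ n) (hns : n < s)
    (hrX : r ∣ Nat.card X) (hsX : s ∣ Nat.card X) : False := by
  obtain ⟨Y, hYX, A, hAY, hA, hcomm, hnorm, hprimes, ⟨x, hxY, hxr, hx1⟩, y, hyY, hys, hy1⟩ :=
    exists_two_prime X hsolv hr.1 hs.1 hrX hsX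
  have hbad : ∀ {u : (Module.End (ZMod p) V)ˣ}, u ^ r = 1 → u ≠ 1 →
      ∀ {z : (Module.End (ZMod p) V)ˣ}, z ^ s = 1 → z ≠ 1 →
        (z : Module.End (ZMod p) V) * u = u * z → False :=
    fun {u} hur hu1 {z} hzs hz1 hc =>
      hm (hs.dvd_of_dvd (dvd_pow_sub_one hn hn0 hr hur hu1 hs.1 hc hzs hz1))
  have hAcop : (Nat.card A).Coprime p :=
    hcop.coprime_dvd_left (Subgroup.card_dvd_of_le (hAY.trans hYX))
  have hx := irred_of_ppd hn hn0 hr hxr hx1
  have hxA := commute_of_normal hn hn0 hr.1 (hr.lt hn0) hxr hx A hcomm hAcop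
    (fun a ha => hnorm x hxY a ha)
  haveI := finite_end (p := p) (V := V)
  obtain ⟨q, hq, hqA⟩ := Nat.exists_prime_and_dvd (n := Nat.card A)
    (fun h => hA (Subgroup.eq_bot_of_card_eq A h))
  obtain ⟨a, haA, haq, ha1⟩ := exists_orderOf_mem A hq hqA
  rcases hprimes q hq hqA with rfl | rfl
  · haveI := nontrivial_space hn hn0
    haveI := commutant_noZeroDivisors hx
    have hc := commute_of_few_conj hn (commutant (x : Module.End (ZMod p) V)) (commutant_comm hn hn0 hx)
      y hs.1 hns hys a fun i => by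
        refine mem_commutant.2 ?_
        have hmem := hnorm _ (pow_mem hyY i) a haA
        have := congrArg Units.val (hxA _ hmem)
        simpa only [Units.val_mul] using this
    exact hbad haq ha1 hys hy1 hc
  · exact hbad hxr hx1 haq ha1 (congrArg Units.val (hxA a haA).symm)

/-- A solvable group of operators on a space of order `2 ^ 6` with order divisible by `31` and by `7`
does not exist. -/
theorem not_sixtyFour [Fact (Nat.Prime 2)] {W : Type*} [AddCommGroup W] [Module (ZMod 2) W] [Finite W]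
    (X : Subgroup (Module.End (ZMod 2) W)ˣ) (hsolv : Group.IsSolvable X)
    (hn : finrank (ZMod 2) W = 6) (h31X : 31 ∣ Nat.card X) (h7X : 7 ∣ Nat.card X) : False := by
  classical
  haveI := finite_end (p := 2) (V := W)
  obtain ⟨Y, -, A, hAY, hA, hcomm, hnorm, hprimes, ⟨y, hyY, hy31, hy1⟩, z, hzY, hz7, hz1⟩ :=
    exists_two_prime X hsolv (by norm_num : Nat.Prime 31) (by norm_num : Nat.Prime 7) h31X h7X
  have h31 : Nat.Prime 31 := by norm_num
  have h7 : Nat.Prime 7 := by norm_num
  have hW : Nat.card W = 64 := by rw [natCard_space (p := 2), hn]; rfl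
  -- an element of order 31 fixes exactly two vectors
  have hfix : ∀ u : (Module.End (ZMod 2) W)ˣ, u ^ 31 = 1 → u ≠ 1 →
      Nat.card ↥(fixedSpace (u : Module.End (ZMod 2) W)) = 2 := by
    intro u hu hu1
    have h := card_modEq_fixedSpace u h31 hu
    rw [hW, natCard_space (p := 2)] at h
    rw [natCard_space (p := 2)]
    have hlt : finrank (ZMod 2) ↥(fixedSpace (u : Module.End (ZMod 2) W)) < 6 :=
      hn ▸ Submodule.finrank_lt (fixedSpace_ne_top hu1)
    generalize finrank (ZMod 2) ↥(fixedSpace (u : Module.End (ZMod 2) W)) = j at h hlt ⊢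
    interval_cases j <;> first | rfl | (norm_num [Nat.ModEq] at h)
  -- so fixed vectors are `0` and one further vector
  have hpair : ∀ u : (Module.End (ZMod 2) W)ˣ, u ^ 31 = 1 → u ≠ 1 → ∀ v, v ≠ 0 →
      (u : Module.End (ZMod 2) W) v = v → ∀ w, (u : Module.End (ZMod 2) W) w = w → w = 0 ∨ w = v := by
    intro u hu hu1 v hv0 hv w hw
    by_contra hne
    push Not at hne
    have h3 : ({0, v, w} : Set W) ⊆ (fixedSpace (u : Module.End (ZMod 2) W) : Set W) := by
      rintro a (rfl | rfl | rfl)
      · exact zero_mem _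
      · exact mem_fixedSpace.2 hv
      · exact mem_fixedSpace.2 hw
    have h4 := Nat.card_mono (Set.toFinite _) h3
    rw [SetLike.coe_sort_coe, hfix u hu hu1, Nat.card_coe_set_eq,
      Set.ncard_eq_three.2 ⟨0, v, w, hv0.symm, hne.1.symm, hne.2.symm, rfl⟩] at h4
    omega
  obtain ⟨⟨v, hv⟩, hv0⟩ : ∃ v : ↥(fixedSpace (y : Module.End (ZMod 2) W)), v ≠ 0 := by
    haveI : Nontrivial ↥(fixedSpace (y : Module.End (ZMod 2) W)) :=
      Finite.one_lt_card_iff_nontrivial.1 (by rw [hfix y hy31 hy1]; norm_num)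
    exact exists_ne 0
  replace hv0 : v ≠ 0 := fun h => hv0 (Subtype.ext h)
  rw [mem_fixedSpace] at hv
  have hinjU : ∀ (u : (Module.End (ZMod 2) W)ˣ) (w : W),
      (u : Module.End (ZMod 2) W) w = 0 → w = 0 := fun u w h => by
    have := congrArg (fun v => (↑u⁻¹ : Module.End (ZMod 2) W) v) h
    simpa [← Module.End.mul_apply] using this
  by_cases h31A : 31 ∣ Nat.card A
  · obtain ⟨a, haA, ha31, ha1⟩ := exists_orderOf_mem A h31 h31A
    -- the elements of exponent 31 of `A`
    let A' : Subgroup (Module.End (ZMod 2) W)ˣ :=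
      { carrier := {c | c ∈ A ∧ c ^ 31 = 1}
        one_mem' := ⟨one_mem A, one_pow _⟩
        mul_mem' := fun {c d} hc hd => ⟨mul_mem hc.1 hd.1, by
          rw [(show Commute c d from hcomm c hc.1 d hd.1).mul_pow, hc.2, hd.2, one_mul]⟩
        inv_mem' := fun {c} hc => ⟨inv_mem hc.1, by rw [inv_pow, hc.2, inv_one]⟩ }
    have haA' : a ∈ A' := ⟨haA, ha31⟩
    -- `a` fixes a vector `v'`, and so does all of `A'`
    obtain ⟨⟨v', hv'⟩, hv'0⟩ : ∃ v : ↥(fixedSpace (a : Module.End (ZMod 2) W)), v ≠ 0 := by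
      haveI : Nontrivial ↥(fixedSpace (a : Module.End (ZMod 2) W)) :=
        Finite.one_lt_card_iff_nontrivial.1 (by rw [hfix a ha31 ha1]; norm_num)
      exact exists_ne 0
    replace hv'0 : v' ≠ 0 := fun h => hv'0 (Subtype.ext h)
    rw [mem_fixedSpace] at hv'
    have hfv : ∀ c : (Module.End (ZMod 2) W)ˣ, c * a = a * c →
        (c : Module.End (ZMod 2) W) v' = v' := by
      intro c hc
      have h : (a : Module.End (ZMod 2) W) ((c : Module.End (ZMod 2) W) v') =
          (c : Module.End (ZMod 2) W) v' := by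
        rw [← Module.End.mul_apply, ← Units.val_mul, ← hc, Units.val_mul, Module.End.mul_apply, hv']
      exact (hpair a ha31 ha1 v' hv'0 hv' _ h).resolve_left fun h0 => hv'0 (hinjU c v' h0)
    -- `A'` is semiregular outside `{0, v'}`, so has order 31
    obtain ⟨u, hu0, huv⟩ : ∃ u : W, u ≠ 0 ∧ u ≠ v' := by
      by_contra hall
      push Not at hall
      have h3 : (Set.univ : Set W) ⊆ {0, v'} := fun w _ => by
        rcases eq_or_ne w 0 with h | h
        · exact Or.inl h
        · exact Or.inr (hall w h)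
      have h4 := Nat.card_mono (Set.toFinite _) h3
      rw [Nat.card_congr (Equiv.Set.univ W), hW, Nat.card_coe_set_eq,
        Set.ncard_pair hv'0.symm] at h4
      omega
    have hle : Nat.card A' ≤ 64 := by
      rw [← hW]
      refine Nat.card_le_card_of_injective (fun c : A' => ((c : (Module.End (ZMod 2) W)ˣ) : Module.End (ZMod 2) W) u)
        fun c d hcd => ?_
      by_contra hne
      set e := d⁻¹ * c with he
      have he1 : (e : (Module.End (ZMod 2) W)ˣ) ≠ 1 := fun h => hne (inv_mul_eq_one.1 (Subtype.ext h)).symm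
      have heu : ((e : (Module.End (ZMod 2) W)ˣ) : Module.End (ZMod 2) W) u = u := by
        rw [he, Subgroup.coe_mul, Units.val_mul, Module.End.mul_apply,
          show ((c : (Module.End (ZMod 2) W)ˣ) : Module.End (ZMod 2) W) u =
            ((d : (Module.End (ZMod 2) W)ˣ) : Module.End (ZMod 2) W) u from hcd,
          ← Module.End.mul_apply, Subgroup.coe_inv, Units.inv_mul, Module.End.one_apply]
      rcases hpair e e.2.2 he1 v' hv'0 (hfv e (hcomm _ e.2.1 a haA)) u heu with h | h
      · exact hu0 h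
      · exact huv h
    haveI := Fact.mk h31
    have hA'P : IsPGroup 31 A' := fun c => ⟨1, Subtype.ext (by rw [pow_one]; exact c.2.2)⟩
    have hA'31 : Nat.card A' = 31 := by
      obtain ⟨k, hk⟩ := IsPGroup.iff_card.1 hA'P
      rcases k with _ | _ | k
      · exact absurd (congrArg Subtype.val
          (@Subsingleton.elim _ (Nat.card_eq_one_iff_unique.1 (by rw [hk, pow_zero])).1
            (⟨a, haA'⟩ : A') 1)) ha1
      · rw [hk, pow_one]
      · exfalso
        rw [hk] at hle
        have : 31 ^ 2 ≤ 31 ^ (k + 1 + 1) := Nat.pow_le_pow_right (by norm_num) (by omega)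
        omega
    -- so `z` centralises some nontrivial element of `A'`
    let f : A' → A' := fun c => ⟨z * c * z⁻¹, hnorm z hzY c c.2.1, by
      rw [conj_pow, c.2.2, mul_one, mul_inv_cancel]⟩
    have hiter : ∀ k : ℕ, ∀ c : A', ((f^[k] c : A') : (Module.End (ZMod 2) W)ˣ) = z ^ k * c * (z ^ k)⁻¹ := by
      intro k
      induction k with
      | zero => intro c; simp
      | succ k ih =>
        intro c
        rw [Function.iterate_succ_apply', pow_succ', mul_inv_rev]
        show z * _ * z⁻¹ = _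
        rw [ih c]
        group
    have hcount := card_modEq_fixed f h7 (funext fun c => Subtype.ext (by rw [hiter, hz7]; simp))
    rw [hA'31] at hcount
    obtain ⟨⟨c, hcz⟩, hc1⟩ : ∃ c : {c : A' // f c = c}, c.1 ≠ 1 := by
      by_contra hall
      push Not at hall
      have := Finite.card_le_one_iff_subsingleton.2
        (⟨fun c d => Subtype.ext ((hall c).trans (hall d).symm)⟩ : Subsingleton {c : A' // f c = c})
      unfold Nat.ModEq at hcount
      omega
    have hczc : z * (c : (Module.End (ZMod 2) W)ˣ) = c * z :=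
      mul_inv_eq_iff_eq_mul.1 (congrArg Subtype.val hcz)
    have hc1' : (c : (Module.End (ZMod 2) W)ˣ) ≠ 1 := fun h => hc1 (Subtype.ext h)
    have hcv' := hfv _ (hcomm _ c.2.1 a haA)
    have hzv' : (z : Module.End (ZMod 2) W) v' = v' := by
      refine (hpair c c.2.2 hc1' v' hv'0 hcv' _ ?_).resolve_left fun h0 => hv'0 (hinjU z v' h0)
      rw [← Module.End.mul_apply, ← Units.val_mul, ← hczc, Units.val_mul, Module.End.mul_apply, hcv']
    -- now `c` acts on the fixed space of `z`
    have hz8 : Nat.card ↥(fixedSpace (z : Module.End (ZMod 2) W)) = 8 := by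
      have h := card_modEq_fixedSpace z h7 hz7
      rw [hW, natCard_space (p := 2)] at h
      rw [natCard_space (p := 2)]
      have hlt : finrank (ZMod 2) ↥(fixedSpace (z : Module.End (ZMod 2) W)) < 6 :=
        hn ▸ Submodule.finrank_lt (fixedSpace_ne_top hz1)
      have hpos : finrank (ZMod 2) ↥(fixedSpace (z : Module.End (ZMod 2) W)) ≠ 0 := fun h0 => hv'0 (by
        have := Submodule.finrank_eq_zero.1 h0 ▸ mem_fixedSpace.2 hzv'
        simpa using this)
      generalize finrank (ZMod 2) ↥(fixedSpace (z : Module.End (ZMod 2) W)) = j at h hlt hpos ⊢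
      interval_cases j <;> first | omega | rfl | (norm_num [Nat.ModEq] at h)
    have hmod := card_set_modEq (c : (Module.End (ZMod 2) W)ˣ) h31 c.2.2
      (fixedSpace (z : Module.End (ZMod 2) W) : Set W) fun w hw => by
        rw [SetLike.mem_coe, mem_fixedSpace] at hw ⊢
        rw [← Module.End.mul_apply, ← Units.val_mul, hczc, Units.val_mul, Module.End.mul_apply, hw]
    rw [SetLike.coe_sort_coe, hz8] at hmod
    have hle2 : Nat.card {w : W // w ∈ (fixedSpace (z : Module.End (ZMod 2) W) : Set W) ∧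
        ((c : (Module.End (ZMod 2) W)ˣ) : Module.End (ZMod 2) W) w = w} ≤ 2 := by
      refine le_of_le_of_eq ?_ (hfix c c.2.2 hc1')
      exact Nat.card_le_card_of_injective (fun w => ⟨w.1, mem_fixedSpace.2 w.2.2⟩)
        fun w w' h => Subtype.ext (congrArg (fun v : ↥(fixedSpace _) => (v : W)) h)
    unfold Nat.ModEq at hmod
    omega
  · -- `A` is a 7-group normalised by `y`
    haveI := Fact.mk h7
    have hA7 : IsPGroup 7 A := by
      refine IsPGroup.of_card (n := (Nat.card A).primeFactorsList.length)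
        (Nat.eq_prime_pow_of_unique_prime_dvd Nat.card_pos.ne' fun {q} hq hqA => ?_)
      rcases hprimes q hq hqA with rfl | rfl
      · exact absurd hqA h31A
      · rfl
    -- `A` fixes `v`
    have hAv : ∀ a ∈ A, (a : Module.End (ZMod 2) W) v = v := by
      obtain ⟨i, hi⟩ := hA7.card_orbit v
      have hne0 : ∀ a : A, ((a : (Module.End (ZMod 2) W)ˣ) : Module.End (ZMod 2) W) v ≠ 0 :=
        fun a h => hv0 (hinjU a v h)
      have hmod := card_set_modEq y h31 hy31 (MulAction.orbit A v) (by
        rintro _ ⟨a, rfl⟩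
        refine ⟨⟨y * a * y⁻¹, hnorm y hyY a a.2⟩, ?_⟩
        show ((y * a * y⁻¹ : (Module.End (ZMod 2) W)ˣ) : Module.End (ZMod 2) W) v = _
        have hyv : (↑y⁻¹ : Module.End (ZMod 2) W) v = v := by
          conv_lhs => rw [← hv, ← Module.End.mul_apply, Units.inv_mul, Module.End.one_apply]
        rw [Units.val_mul, Units.val_mul, Module.End.mul_apply, Module.End.mul_apply, hyv]
        rfl)
      have hone : Nat.card {w : W // w ∈ MulAction.orbit A v ∧ (y : Module.End (ZMod 2) W) w = w} = 1 := by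
        rw [Nat.card_eq_one_iff_unique]
        refine ⟨⟨fun a b => Subtype.ext ?_⟩, ⟨⟨v, MulAction.mem_orbit_self v, hv⟩⟩⟩
        have key : ∀ w, w ∈ MulAction.orbit A v → (y : Module.End (ZMod 2) W) w = w → w = v := by
          rintro _ ⟨c, rfl⟩ hcw
          exact (hpair y hy31 hy1 v hv0 hv _ hcw).resolve_left (hne0 c)
        rw [key _ a.2.1 a.2.2, key _ b.2.1 b.2.2]
      rw [hone, hi] at hmod
      have hile : 7 ^ i ≤ 64 := hi ▸ hW ▸ Finite.card_subtype_le _
      have hi0 : i = 0 := by
        rcases i with _ | _ | _ | i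
        · rfl
        · norm_num [Nat.ModEq] at hmod
        · norm_num [Nat.ModEq] at hmod
        · have : 7 ^ 3 ≤ 7 ^ (i + 1 + 1 + 1) := Nat.pow_le_pow_right (by norm_num) (by omega)
          omega
      rw [hi0, pow_zero, Nat.card_eq_one_iff_unique] at hi
      intro a ha
      exact congrArg Subtype.val (@Subsingleton.elim _ hi.1
        ⟨(⟨a, ha⟩ : A) • v, MulAction.mem_orbit v _⟩ ⟨v, MulAction.mem_orbit_self v⟩)
    let F : Submodule (ZMod 2) W :=
      { carrier := MulAction.fixedPoints A W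
        add_mem' := fun {u w} hu hw a => by
          show ((a : (Module.End (ZMod 2) W)ˣ) : Module.End (ZMod 2) W) (u + w) = u + w
          rw [map_add]
          exact congrArg₂ (· + ·) (hu a) (hw a)
        zero_mem' := fun a => map_zero ((a : (Module.End (ZMod 2) W)ˣ) : Module.End (ZMod 2) W)
        smul_mem' := fun c w hw a => by
          show ((a : (Module.End (ZMod 2) W)ˣ) : Module.End (ZMod 2) W) (c • w) = c • w
          rw [map_smul]
          exact congrArg _ (hw a) }
    have hFv : v ∈ F := fun a => hAv a a.2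
    have hmod := card_set_modEq y h31 hy31 (F : Set W) fun w hw a => by
      show ((a : (Module.End (ZMod 2) W)ˣ) : Module.End (ZMod 2) W) _ = _
      have h2 := hw ⟨y⁻¹ * a * y, by
        have hyinv : y ^ 30 = y⁻¹ := eq_inv_of_mul_eq_one_left (by rw [← pow_succ, hy31])
        have := hnorm _ (pow_mem hyY 30) a a.2
        rwa [hyinv, inv_inv] at this⟩
      change ((y⁻¹ * a * y : (Module.End (ZMod 2) W)ˣ) : Module.End (ZMod 2) W) w = w at h2
      conv_rhs => rw [← h2]
      simp [← Module.End.mul_apply, mul_assoc]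
    have hF2 : Nat.card F = 2 := by
      have hsub : Nat.card {w : W // w ∈ (F : Set W) ∧ (y : Module.End (ZMod 2) W) w = w} = 2 := by
        refine Eq.trans ?_ (hfix y hy31 hy1)
        refine Nat.card_congr (Equiv.subtypeEquivRight fun w =>
          ⟨fun h => mem_fixedSpace.2 h.2, fun h => ⟨?_, mem_fixedSpace.1 h⟩⟩)
        rcases hpair y hy31 hy1 v hv0 hv w (mem_fixedSpace.1 h) with rfl | rfl
        · exact zero_mem F
        · exact hFv
      rw [hsub, SetLike.coe_sort_coe, natCard_space (p := 2)] at hmod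
      rw [natCard_space (p := 2)]
      have hlt : finrank (ZMod 2) F < 6 := hn ▸ Submodule.finrank_lt fun h => hA (by
        rw [eq_bot_iff]
        intro a ha
        rw [Subgroup.mem_bot]
        exact Units.ext (LinearMap.ext fun w => (h ▸ Submodule.mem_top : w ∈ F) ⟨a, ha⟩))
      generalize finrank (ZMod 2) F = j at hmod hlt ⊢
      interval_cases j <;> first | rfl | (norm_num [Nat.ModEq] at hmod)
    have h := hA7.card_modEq_card_fixedPoints W
    rw [hW, show Nat.card ↥(MulAction.fixedPoints A W) = Nat.card F from rfl, hF2] at h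
    norm_num [Nat.ModEq] at h

end CfsgLib.FgsSix.SolvableLinear
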