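import Cfsg.Agent.FgsSix.SolvableLinear.Cases
import Cfsg.Agent.Zsigmondy.Basic

/-!
# Solvable `p'`-groups transitive on points and lines of a projective space

Such a group, in dimension `n ≥ 3`, is semilinear over the field with `p ^ n` elements, and `n = 3`
or `(n, p) = (5, 2)`.
-/

set_option autoImplicit false

namespace CfsgLib.FgsSix.SolvableLinear

open Module

variable {p : ℕ} [Fact p.Prime] {V : Type*} [AddCommGroup V] [Module (ZMod p) V] [Finite V]

/-- The scalar operators. -/
def scalars : Subgroup (Module.End (ZMod p) V)ˣ :=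
  (Units.map (algebraMap (ZMod p) (Module.End (ZMod p) V)).toMonoidHom).range

theorem scalars_central {c : (Module.End (ZMod p) V)ˣ} (hc : c ∈ scalars)
    (g : (Module.End (ZMod p) V)ˣ) : c * g = g * c := by
  obtain ⟨u, rfl⟩ := hc
  refine Units.ext ?_
  exact Algebra.commutes (u : ZMod p) (g : Module.End (ZMod p) V)

theorem mem_scalars {g : (Module.End (ZMod p) V)ˣ} {c : ZMod p} [Nontrivial V]
    (h : (g : Module.End (ZMod p) V) = algebraMap (ZMod p) (Module.End (ZMod p) V) c) :
    g ∈ scalars := by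
  have hc : c ≠ 0 := fun h0 => g.ne_zero (by rw [h, h0, map_zero])
  exact ⟨Units.mk0 c hc, Units.ext h.symm⟩

theorem exists_val_of_mem_scalars {g : (Module.End (ZMod p) V)ˣ} (hg : g ∈ scalars) :
    ∃ c : (ZMod p)ˣ, (g : Module.End (ZMod p) V) = (c : ZMod p) • 1 := by
  obtain ⟨c, rfl⟩ := hg
  exact ⟨c, Algebra.algebraMap_eq_smul_one _⟩

/-- The determinant of the scalar in `g h = c h g` is trivial. -/
theorem pow_eq_one_of_smul {n : ℕ} (hn : finrank (ZMod p) V = n) (g h : (Module.End (ZMod p) V)ˣ)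
    (c : ZMod p) (heq : (g : Module.End (ZMod p) V) * h * (↑g⁻¹ : Module.End (ZMod p) V) =
      c • (h : Module.End (ZMod p) V)) : c ^ n = 1 := by
  have h1 := congrArg LinearMap.det heq
  rw [map_mul, map_mul, mul_comm (LinearMap.det (g : Module.End (ZMod p) V)), mul_assoc, ← map_mul,
    Units.mul_inv, map_one, mul_one, LinearMap.det_smul, hn] at h1
  refine (mul_eq_right₀ ?_).1 h1.symm
  exact (h.isUnit.map (LinearMap.det : Module.End (ZMod p) V →* ZMod p)).ne_zero

/-- In prime dimension a solvable `p'`-group containing an operator of primitive prime divisor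
order normalises the commutant field of this operator. -/
theorem semilinear_of_prime {n r : ℕ} (hn : finrank (ZMod p) V = n) (hnp : n.Prime) (hn3 : 3 ≤ n)
    (hr : Ppd p r n) (X : Subgroup (Module.End (ZMod p) V)ˣ) (hsolv : Group.IsSolvable X)
    (hcop : (Nat.card X).Coprime p) {x : (Module.End (ZMod p) V)ˣ} (hxX : x ∈ X) (hxr : x ^ r = 1)
    (hx1 : x ≠ 1) :
    ∀ g ∈ X, ∀ f ∈ commutant (x : Module.End (ZMod p) V),
      (g : Module.End (ZMod p) V) * f * (↑g⁻¹ : Module.End (ZMod p) V) ∈
        commutant (x : Module.End (ZMod p) V) := by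
  classical
  have hn0 : n ≠ 0 := hnp.ne_zero
  haveI := nontrivial_space hn hn0
  haveI := finite_end (p := p) (V := V)
  have hx := irred_of_ppd hn hn0 hr hxr hx1
  have hrn := hr.lt hn0
  -- the case of a nonscalar abelian normal subgroup
  have habel : ∀ A ≤ X, (∀ a ∈ A, ∀ b ∈ A, a * b = b * a) → (∀ y ∈ X, ∀ a ∈ A, y * a * y⁻¹ ∈ A) →
      ¬ A ≤ scalars → ∀ g ∈ X, ∀ f ∈ commutant (x : Module.End (ZMod p) V),
      (g : Module.End (ZMod p) V) * f * (↑g⁻¹ : Module.End (ZMod p) V) ∈
        commutant (x : Module.End (ZMod p) V) := by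
    intro A hAX hA hnorm hns
    have hxA := commute_of_normal hn hn0 hr.1 hrn hxr hx A hA
      (hcop.coprime_dvd_left (Subgroup.card_dvd_of_le hAX)) fun a ha => hnorm x hxX a ha
    set C := commutant (x : Module.End (ZMod p) V) with hC
    set B := Algebra.adjoin (ZMod p) (Units.val '' (A : Set (Module.End (ZMod p) V)ˣ)) with hB
    have hBC : B ≤ C := Algebra.adjoin_le (by
      rintro _ ⟨a, ha, rfl⟩
      exact mem_commutant.2 (by rw [← Units.val_mul, hxA a ha, Units.val_mul]))
    haveI : NoZeroDivisors C := commutant_noZeroDivisors hx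
    haveI : NoZeroDivisors B := ⟨fun {a b} hab => by
      have h := eq_zero_or_eq_zero_of_mul_eq_zero
        (show (⟨(a : Module.End (ZMod p) V), hBC a.2⟩ : C) * ⟨(b : Module.End (ZMod p) V), hBC b.2⟩ = 0 from
          Subtype.ext (congrArg Subtype.val hab :))
      rcases h with h | h
      · exact Or.inl (Subtype.ext (congrArg Subtype.val h :))
      · exact Or.inr (Subtype.ext (congrArg Subtype.val h :))⟩
    haveI : IsDomain B := NoZeroDivisors.to_isDomain B
    have hBf : IsField B := Finite.isDomain_to_isField B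
    have hCf := commutant_isField hn hn0 hx
    have hdvd : Nat.card B - 1 ∣ Nat.card C - 1 := by
      letI := hBf.toField
      letI := hCf.toField
      rw [← Nat.card_units, ← Nat.card_units]
      refine Subgroup.card_dvd_of_injective (Units.map (Subalgebra.inclusion hBC).toMonoidHom) ?_
      exact Units.map_injective (Subalgebra.inclusion_injective hBC)
    rw [hC, card_commutant hn hn0 hr hxr hx1, natCard_space (p := p)] at hdvd
    set d := finrank (ZMod p) B with hd
    have hdn : d ∣ n := by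
      have h1 := Nat.pow_sub_one_gcd_pow_sub_one p d n
      rw [Nat.gcd_eq_left hdvd] at h1
      have hp := (Fact.out : p.Prime)
      have h2 : p ^ d = p ^ Nat.gcd d n := by
        have := Nat.one_le_pow d p hp.pos
        have := Nat.one_le_pow (Nat.gcd d n) p hp.pos
        omega
      exact (Nat.pow_right_injective hp.two_le h2) ▸ Nat.gcd_dvd_right d n
    have hBeq : B = C := by
      rcases (Nat.dvd_prime hnp).1 hdn with h1 | h1
      · refine absurd ?_ hns
        intro a ha
        have ha' : (a : Module.End (ZMod p) V) ∈ B := Algebra.subset_adjoin ⟨a, ha, rfl⟩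
        rw [Subalgebra.eq_bot_of_finrank_one h1, Algebra.mem_bot] at ha'
        obtain ⟨c, hc⟩ := ha'
        exact mem_scalars hc.symm
      · refine Subalgebra.toSubmodule_injective (Submodule.eq_of_le_of_finrank_eq
          (Subalgebra.toSubmodule.monotone hBC) ?_)
        show finrank (ZMod p) B = finrank (ZMod p) C
        refine Nat.pow_right_injective (Fact.out : p.Prime).two_le ?_
        show p ^ finrank (ZMod p) B = p ^ finrank (ZMod p) C
        rw [← natCard_space (p := p) (W := C), hC, card_commutant hn hn0 hr hxr hx1, ← hd, h1]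
    intro g hg f hf
    rw [← hBeq] at hf ⊢
    let φ : Module.End (ZMod p) V →ₐ[ZMod p] Module.End (ZMod p) V :=
      MulSemiringAction.toAlgHom (ZMod p) (Module.End (ZMod p) V) (ConjAct.toConjAct g)
    have hφ : ∀ f, φ f = (g : Module.End (ZMod p) V) * f * (↑g⁻¹ : Module.End (ZMod p) V) := fun f => by
      simp [φ, ConjAct.units_smul_def]
    have h1 : φ f ∈ B.map φ := ⟨f, hf, rfl⟩
    rw [hB, AlgHom.map_adjoin] at h1
    rw [← hφ]
    refine Algebra.adjoin_le ?_ h1
    rintro _ ⟨_, ⟨a, ha, rfl⟩, rfl⟩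
    rw [hφ]
    exact Algebra.subset_adjoin ⟨g * a * g⁻¹, hnorm g hg a ha, by simp⟩
  -- the last nonscalar derived subgroup
  have hxs : x ∉ scalars := by
    rintro hxs
    obtain ⟨c, hc⟩ := exists_val_of_mem_scalars hxs
    rcases hx (Submodule.span (ZMod p) {Classical.choose (exists_ne (0 : V))}) (fun w hw => by
      rw [hc]
      exact Submodule.smul_mem _ _ hw) with h | h
    · exact Classical.choose_spec (exists_ne (0 : V)) (Submodule.span_singleton_eq_bot.1 h)
    · have := finrank_span_singleton (K := ZMod p) (Classical.choose_spec (exists_ne (0 : V)))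
      rw [h, finrank_top, hn] at this
      omega
  have hex : ∃ k, (derivedSeries X k).map X.subtype ≤ scalars := by
    obtain ⟨k, hk⟩ := (isSolvable_def X).1 hsolv
    exact ⟨k, by rw [hk, Subgroup.map_bot]; exact bot_le⟩
  have hk0 : Nat.find hex ≠ 0 := fun h => hxs (by
    refine (h ▸ Nat.find_spec hex) ?_
    rw [derivedSeries_zero]
    exact ⟨⟨x, hxX⟩, Subgroup.mem_top _, rfl⟩)
  set k := Nat.find hex - 1 with hk
  set A := (derivedSeries X k).map X.subtype with hAdef
  have hAns : ¬ A ≤ scalars := Nat.find_min hex (by omega)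
  have hAX : A ≤ X := Subgroup.map_subtype_le _
  have hnorm : ∀ y ∈ X, ∀ a ∈ A, y * a * y⁻¹ ∈ A := by
    rintro y hy _ ⟨a, ha, rfl⟩
    exact ⟨⟨y, hy⟩ * a * ⟨y, hy⟩⁻¹, (derivedSeries_normal X k).conj_mem a ha _, rfl⟩
  have hder : ∀ a ∈ A, ∀ b ∈ A, a * b * a⁻¹ * b⁻¹ ∈ scalars := by
    intro a ha b hb
    have h := Nat.find_spec hex
    rw [show Nat.find hex = k + 1 by omega, derivedSeries_succ, Subgroup.map_commutator] at h
    exact h (Subgroup.commutator_mem_commutator ha hb)
  set Z := A ⊓ Subgroup.centralizer (A : Set (Module.End (ZMod p) V)ˣ) with hZdef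
  by_cases hZ : Z ≤ scalars
  swap
  · refine habel Z (inf_le_left.trans hAX) (fun a ha b hb => (Subgroup.mem_centralizer_iff.1 ha.2 b hb.1).symm)
      (fun y hy a ha => ⟨hnorm y hy a ha.1, ?_⟩) hZ
    refine Subgroup.mem_centralizer_iff.2 fun b hb => ?_
    have hb' : y⁻¹ * b * y ∈ A := by simpa using hnorm y⁻¹ (inv_mem hy) b hb
    have hc := Subgroup.mem_centralizer_iff.1 ha.2 _ hb'
    calc b * (y * a * y⁻¹) = y * ((y⁻¹ * b * y) * a) * y⁻¹ := by group
      _ = y * (a * (y⁻¹ * b * y)) * y⁻¹ := by rw [hc]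
      _ = y * a * y⁻¹ * b := by group
  exfalso
  -- commutation up to scalars
  have hscal : ∀ a ∈ A, ∀ b ∈ A, ∃ c : ZMod p, c ^ n = 1 ∧
      (a : Module.End (ZMod p) V) * b * (↑a⁻¹ : Module.End (ZMod p) V) = c • (b : Module.End (ZMod p) V) := by
    intro a ha b hb
    obtain ⟨c, hc⟩ := exists_val_of_mem_scalars (hder a ha b hb)
    have heq : (a : Module.End (ZMod p) V) * b * (↑a⁻¹ : Module.End (ZMod p) V) =
        (c : ZMod p) • (b : Module.End (ZMod p) V) := by
      have h := congrArg (fun t => t * (b : Module.End (ZMod p) V)) hc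
      simpa [mul_assoc] using h
    exact ⟨c, pow_eq_one_of_smul hn a b c heq, heq⟩
  -- a nonscalar element of `A` is moved by some element
  have hmove : ∀ b ∈ A, b ∉ scalars → ∃ a ∈ A, ∃ c : ZMod p, c ^ n = 1 ∧ c ≠ 1 ∧
      (a : Module.End (ZMod p) V) * b * (↑a⁻¹ : Module.End (ZMod p) V) = c • (b : Module.End (ZMod p) V) := by
    intro b hb hbs
    by_contra hall
    push Not at hall
    refine hbs (hZ ⟨hb, Subgroup.mem_centralizer_iff.2 fun a ha => ?_⟩)
    obtain ⟨c, hc, heq⟩ := hscal a ha b hb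
    rcases eq_or_ne c 1 with rfl | hc1
    · rw [one_smul] at heq
      refine Units.ext ?_
      rw [Units.val_mul, Units.val_mul]
      exact (Units.mul_inv_eq_iff_eq_mul a).1 heq
    · exact absurd heq (hall a ha c hc hc1)
  have htrace : ∀ b ∈ A, b ∉ scalars → LinearMap.trace (ZMod p) V (b : Module.End (ZMod p) V) = 0 := by
    intro b hb hbs
    obtain ⟨a, -, c, -, hc1, heq⟩ := hmove b hb hbs
    have h := congrArg (LinearMap.trace (ZMod p) V) heq
    rw [LinearMap.trace_conj, map_smul, smul_eq_mul] at h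
    by_contra hne
    exact hc1 ((mul_eq_right₀ hne).1 h.symm)
  have hnne : (n : ZMod p) ≠ 0 := by
    obtain ⟨b, hb, hbs⟩ := SetLike.not_le_iff_exists.1 hAns
    obtain ⟨-, -, c, hcn, hc1, -⟩ := hmove b hb hbs
    haveI := Fact.mk hnp
    intro h0
    rw [ZMod.natCast_eq_zero_iff, Nat.prime_dvd_prime_iff_eq Fact.out hnp] at h0
    subst h0
    rw [ZMod.pow_card] at hcn
    exact hc1 hcn
  set Z' := scalars.subgroupOf A with hZ'
  haveI hZn : Z'.Normal := ⟨fun z hz a => by
    rw [hZ', Subgroup.mem_subgroupOf] at hz ⊢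
    rwa [Subgroup.coe_mul, Subgroup.coe_mul, ← scalars_central hz, Subgroup.coe_inv, mul_inv_cancel_right]⟩
  let rep : A ⧸ Z' → Module.End (ZMod p) V := fun q => ((q.out : A) : (Module.End (ZMod p) V)ˣ)
  haveI := Fintype.ofFinite (A ⧸ Z')
  have hli : LinearIndependent (ZMod p) rep := by
    rw [Fintype.linearIndependent_iff]
    intro c hc q
    have h := congrArg (fun f => LinearMap.trace (ZMod p) V
      ((↑((q.out : A) : (Module.End (ZMod p) V)ˣ)⁻¹ : Module.End (ZMod p) V) * f)) hc
    simp only [Finset.mul_sum, map_sum, mul_smul_comm, map_smul, mul_zero, map_zero] at h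
    rw [Finset.sum_eq_single q] at h
    · simp only [rep, Units.inv_mul, LinearMap.trace_one, hn, smul_eq_mul, mul_eq_zero] at h
      exact h.resolve_right hnne
    · intro q' _ hq'
      have hmem : ((q.out : A) : (Module.End (ZMod p) V)ˣ)⁻¹ * ((q'.out : A) : (Module.End (ZMod p) V)ˣ) ∈ A :=
        mul_mem (inv_mem q.out.2) q'.out.2
      have := htrace _ hmem fun hs => hq' ?_
      · rw [Units.val_mul] at this
        rw [this, smul_zero]
      · rw [← QuotientGroup.out_eq' q, ← QuotientGroup.out_eq' q', eq_comm]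
        exact QuotientGroup.eq.2 hs
    · intro h'
      exact absurd (Finset.mem_univ q) h'
  have hle : Nat.card (A ⧸ Z') ≤ n * n := by
    have h := hli.fintype_card_le_finrank
    rwa [Module.finrank_linearMap, hn, ← Nat.card_eq_fintype_card] at h
  haveI := Fact.mk hnp
  have hexp : IsPGroup n (A ⧸ Z') := by
    intro q
    refine ⟨1, ?_⟩
    obtain ⟨⟨b, hb⟩, rfl⟩ := QuotientGroup.mk'_surjective Z' q
    rw [pow_one, ← map_pow, QuotientGroup.mk'_apply, QuotientGroup.eq_one_iff, hZ',
      Subgroup.mem_subgroupOf]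
    refine hZ ⟨pow_mem hb n, Subgroup.mem_centralizer_iff.2 fun a ha => ?_⟩
    obtain ⟨c, hc, heq⟩ := hscal a ha b hb
    have h : (a : Module.End (ZMod p) V) * (b : Module.End (ZMod p) V) ^ n *
        (↑a⁻¹ : Module.End (ZMod p) V) = (b : Module.End (ZMod p) V) ^ n := by
      rw [← Units.conj_pow, heq, smul_pow, hc, one_smul]
    refine Units.ext ?_
    rw [Units.val_mul, Units.val_mul, Subgroup.coe_pow, Units.val_pow_eq_pow_val]
    exact (Units.mul_inv_eq_iff_eq_mul a).1 h
  obtain ⟨m, hm⟩ := IsPGroup.iff_card.1 hexp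
  have hm2 : m ≤ 2 := by
    rw [hm, ← sq] at hle
    exact (Nat.pow_le_pow_iff_right hnp.one_lt).1 hle
  let σ : A →* A :=
    { toFun := fun a => ⟨x * a * x⁻¹, hnorm x hxX a a.2⟩
      map_one' := Subtype.ext (by simp)
      map_mul' := fun a b => Subtype.ext (by simp only [Subgroup.coe_mul]; group) }
  let F : A ⧸ Z' →* A ⧸ Z' := QuotientGroup.map Z' Z' σ fun z hz => by
    rw [Subgroup.mem_comap, hZ', Subgroup.mem_subgroupOf] at *
    show x * (z : (Module.End (ZMod p) V)ˣ) * x⁻¹ ∈ scalars
    rwa [← scalars_central hz, mul_inv_cancel_right]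
  have hiterσ : ∀ j : ℕ, ∀ a : A, ((σ^[j] a : A) : (Module.End (ZMod p) V)ˣ) = x ^ j * a * (x ^ j)⁻¹ := by
    intro j
    induction j with
    | zero => intro a; simp
    | succ j ih =>
      intro a
      rw [Function.iterate_succ_apply', pow_succ', mul_inv_rev]
      show x * _ * x⁻¹ = _
      rw [ih a]
      group
  have hiterF : ∀ j : ℕ, ∀ a : A, F^[j] (QuotientGroup.mk' Z' a) = QuotientGroup.mk' Z' (σ^[j] a) := by
    intro j
    induction j with
    | zero => intro a; rfl
    | succ j ih =>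
      intro a
      rw [Function.iterate_succ_apply', Function.iterate_succ_apply', ih a]
      rfl
  have hFr : (⇑F)^[r] = id := by
    funext q
    obtain ⟨a, rfl⟩ := QuotientGroup.mk'_surjective Z' q
    rw [hiterF, show σ^[r] a = a from Subtype.ext (by rw [hiterσ, hxr]; simp)]
    rfl
  set Fx := MonoidHom.eqLocus F (MonoidHom.id _) with hFx
  have hmod : Nat.card (A ⧸ Z') ≡ Nat.card Fx [MOD r] := card_modEq_fixed (⇑F) hr.1 hFr
  obtain ⟨i, him, hi⟩ := (Nat.dvd_prime_pow hnp).1 (hm ▸ Subgroup.card_subgroup_dvd_card Fx)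
  have htop : Fx = ⊤ := by
    refine Subgroup.eq_top_of_card_eq _ ?_
    rw [hi, hm]
    by_contra hne
    have him' : i < m := lt_of_le_of_ne him fun h => hne (by rw [h])
    rw [hm, hi] at hmod
    haveI := Fact.mk hr.1
    have h1 : r ∣ n ^ i * (n ^ (m - i) - 1) := by
      rw [Nat.mul_sub, mul_one, ← pow_add, Nat.add_sub_cancel' him]
      exact (Nat.modEq_iff_dvd' (Nat.pow_le_pow_right hnp.pos him)).1 hmod.symm
    have h2 := (hr.1.dvd_mul.1 h1).resolve_left fun h => by
      have := Nat.le_of_dvd hnp.pos (hr.1.dvd_of_dvd_pow h)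
      omega
    have hno : ∀ t, 0 < t → t ≤ n + 1 → r ∣ t → False := fun t ht0 ht hdt => by
      have h3 := Nat.le_of_dvd ht0 hdt
      have hr' : r = n + 1 := by omega
      have hodd : Odd n := hnp.odd_of_ne_two (by omega)
      have := (hr.1.eq_two_or_odd').resolve_left (by omega)
      obtain ⟨u, hu⟩ := hodd
      obtain ⟨w, hw⟩ := this
      omega
    rcases (show m - i = 1 ∨ m - i = 2 by omega) with h | h <;> rw [h] at h2
    · rw [pow_one] at h2
      exact hno (n - 1) (by omega) (by omega) h2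
    · rw [show n ^ 2 - 1 = (n + 1) * (n - 1) by rw [← Nat.sq_sub_sq n 1, one_pow]] at h2
      rcases hr.1.dvd_mul.1 h2 with h2 | h2
      · exact hno (n + 1) (by omega) le_rfl h2
      · exact hno (n - 1) (by omega) (by omega) h2
  have hxA : ∀ a ∈ A, x * a = a * x := by
    intro a ha
    have h : F (QuotientGroup.mk' Z' ⟨a, ha⟩) = QuotientGroup.mk' Z' ⟨a, ha⟩ := by
      have : QuotientGroup.mk' Z' ⟨a, ha⟩ ∈ Fx := htop ▸ Subgroup.mem_top _
      exact this
    have h' : QuotientGroup.mk' Z' (σ ⟨a, ha⟩) = QuotientGroup.mk' Z' ⟨a, ha⟩ := h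
    rw [QuotientGroup.mk'_apply, QuotientGroup.mk'_apply, eq_comm, QuotientGroup.eq, hZ',
      Subgroup.mem_subgroupOf] at h'
    set z := a⁻¹ * (x * a * x⁻¹) with hz
    have hzs : z ∈ scalars := h'
    have hconj : x * a * x⁻¹ = a * z := by rw [hz, mul_inv_cancel_left]
    have hpow : ∀ j : ℕ, x ^ j * a * (x ^ j)⁻¹ = a * z ^ j := by
      intro j
      induction j with
      | zero => simp
      | succ j ih =>
        calc x ^ (j + 1) * a * (x ^ (j + 1))⁻¹ = x * (x ^ j * a * (x ^ j)⁻¹) * x⁻¹ := by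
              rw [pow_succ']; group
          _ = x * (a * z ^ j) * x⁻¹ := by rw [ih]
          _ = (x * a * x⁻¹) * (x * z ^ j * x⁻¹) := by group
          _ = a * z * z ^ j := by
              rw [hconj, ← scalars_central (pow_mem hzs j), mul_inv_cancel_right]
          _ = a * z ^ (j + 1) := by rw [mul_assoc, pow_succ']
    have hzr : z ^ r = 1 := by
      have := hpow r
      rw [hxr, one_mul, inv_one, mul_one] at this
      exact mul_left_cancel (this.symm.trans (mul_one a).symm)
    obtain ⟨c, hc⟩ := exists_val_of_mem_scalars hzs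
    have hcn : (c : ZMod p) ^ n = 1 := by
      refine pow_eq_one_of_smul hn x a c ?_
      rw [← Units.val_mul, ← Units.val_mul, hconj, Units.val_mul, hc, mul_smul_comm, mul_one]
    have hcr : (c : ZMod p) ^ r = 1 := by
      have h2 := congrArg Units.val hzr
      rw [Units.val_pow_eq_pow_val, hc, smul_pow, one_pow, Units.val_one] at h2
      have h3 := congrArg LinearMap.det h2
      rw [LinearMap.det_smul, map_one, mul_one, hn] at h3
      obtain ⟨v, hv⟩ := exists_ne (0 : V)
      have h4 := LinearMap.congr_fun h2 v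
      rw [LinearMap.smul_apply, Module.End.one_apply] at h4
      by_contra hne
      refine hv ((smul_eq_zero.1 (show ((c : ZMod p) ^ r - 1) • v = 0 by
        rw [sub_smul, h4, one_smul, sub_self])).resolve_left (sub_ne_zero.2 hne))
    have hc1 : (c : ZMod p) = 1 := by
      have h5 : orderOf (c : ZMod p) ∣ Nat.gcd n r :=
        Nat.dvd_gcd (orderOf_dvd_of_pow_eq_one hcn) (orderOf_dvd_of_pow_eq_one hcr)
      rw [(Nat.coprime_primes hnp hr.1).2 (by omega), Nat.dvd_one, orderOf_eq_one_iff] at h5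
      exact h5
    have hz1 : z = 1 := Units.ext (by rw [hc, hc1, one_smul]; rfl)
    rw [hz1, mul_one, mul_inv_eq_iff_eq_mul] at hconj
    exact hconj
  refine hAns fun a ha => hZ ⟨ha, Subgroup.mem_centralizer_iff.2 fun b hb => ?_⟩
  refine Units.ext ?_
  rw [Units.val_mul, Units.val_mul]
  refine commutant_comm hn hn0 hx _ (mem_commutant.2 ?_) _ (mem_commutant.2 ?_)
  · rw [← Units.val_mul, hxA b hb, Units.val_mul]
  · rw [← Units.val_mul, hxA a ha, Units.val_mul]

theorem map_scalar_submodule (c : (ZMod p)ˣ) (W : Submodule (ZMod p) V) :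
    W.map (algebraMap (ZMod p) (Module.End (ZMod p) V) c) = W := by
  ext w
  constructor
  · rintro ⟨u, hu, rfl⟩
    rw [Module.algebraMap_end_apply]
    exact W.smul_mem _ hu
  · intro hw
    exact ⟨((c⁻¹ : (ZMod p)ˣ) : ZMod p) • w, W.smul_mem _ hw, by
      rw [Module.algebraMap_end_apply, smul_smul, Units.mul_inv, one_smul]⟩

/-- The number of planes is bounded by the number of semilinear maps modulo scalars. -/
theorem card_grass_le {n : ℕ} (hn : finrank (ZMod p) V = n) (hn2 : 2 ≤ n)
    (X : Subgroup (Module.End (ZMod p) V)ˣ) (hX : SubTransitive X) (e : V ≃+ GaloisField p n)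
    (he : ∀ g ∈ X, Semilinear e g) :
    Nat.card (Grass p V 2) * (p - 1) ≤ (p ^ n - 1) * n := by
  haveI := nontrivial_space hn (by omega : n ≠ 0)
  obtain ⟨W₀⟩ := exists_grass (p := p) (V := V) hn hn2
  choose g hgX hg using fun W : Grass p V 2 => hX W₀.1 W.1 (W₀.2.trans W.2.symm) W₀.2.le
  let f : Grass p V 2 × (ZMod p)ˣ → (Module.End (ZMod p) V)ˣ := fun t =>
    g t.1 * Units.map (algebraMap (ZMod p) (Module.End (ZMod p) V)).toMonoidHom t.2
  have hf : Function.Injective f := by
    rintro ⟨W, c⟩ ⟨W', c'⟩ h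
    have hW : ∀ (W : Grass p V 2) (c : (ZMod p)ˣ), W₀.1.map (f (W, c) : Module.End (ZMod p) V) = W.1 := by
      intro W c
      show W₀.1.map ((g W : Module.End (ZMod p) V) ∘ₗ algebraMap (ZMod p) (Module.End (ZMod p) V) c) = W.1
      rw [Submodule.map_comp, map_scalar_submodule, hg]
    have hWW' : W = W' := Subtype.ext (by rw [← hW W c, h, hW])
    subst hWW'
    have h2 := congrArg Units.val (mul_left_cancel h)
    exact Prod.ext rfl (Units.ext ((algebraMap (ZMod p) (Module.End (ZMod p) V)).injective h2))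
  have h := card_le_of_semilinear (by omega) e f hf fun t => by
    obtain ⟨a, φ, ha, heq⟩ := he _ (hgX t.1)
    refine ⟨a * φ (algebraMap (ZMod p) (GaloisField p n) t.2), φ,
      mul_ne_zero ha ((map_ne_zero φ).2 ((map_ne_zero (algebraMap (ZMod p) (GaloisField p n))).2
        t.2.ne_zero)), fun v => ?_⟩
    show e ((g t.1 : Module.End (ZMod p) V)
      ((algebraMap (ZMod p) (Module.End (ZMod p) V) t.2) v)) = _
    rw [heq, Module.algebraMap_end_apply, ZMod.map_smul e, Algebra.smul_def, map_mul, mul_assoc]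
  rwa [Nat.card_prod, Nat.card_units, Nat.card_zmod] at h

/-- A solvable `p'`-group transitive on the points and on the lines of the projective space of
dimension `n - 1 ≥ 2` over `ZMod p`. -/
theorem main {n : ℕ} (hn : finrank (ZMod p) V = n) (hn3 : 3 ≤ n)
    (X : Subgroup (Module.End (ZMod p) V)ˣ) (hsolv : Group.IsSolvable X)
    (hcop : (Nat.card X).Coprime p) (hX : SubTransitive X) :
    (n = 3 ∨ (n = 5 ∧ p = 2)) ∧ ∃ e : V ≃+ GaloisField p n, ∀ g ∈ X, Semilinear e g := by
  have hp := (Fact.out : p.Prime)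
  by_cases h26 : p = 2 ∧ n = 6
  · obtain ⟨rfl, rfl⟩ := h26
    have h1 := card_grass_mul (p := 2) (V := V) (k := 1) hn (by omega)
    have h2 := card_grass_mul (p := 2) (V := V) (k := 2) hn (by omega)
    simp only [Fin.prod_univ_one, Fin.prod_univ_two, Fin.val_zero, Fin.val_one] at h1 h2
    norm_num at h1 h2
    refine (not_sixtyFour X hsolv hn ?_ ?_).elim
    · exact (show (31 : ℕ) ∣ Nat.card (Grass 2 V 2) from
        ⟨21, by omega⟩).trans (card_grass_dvd X hX hn (by omega) le_rfl)
    · exact (show (7 : ℕ) ∣ Nat.card (Grass 2 V 1) from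
        ⟨9, by omega⟩).trans (card_grass_dvd X hX hn (by omega) (by omega))
  obtain ⟨r, hr⟩ : ∃ r, Ppd p r n :=
    Zsigmondy.exists_ppd hp.one_lt (by omega) h26 fun h => by omega
  by_cases hnp : n.Prime
  · obtain ⟨x, hxX, hxr, hx1⟩ := exists_orderOf_mem X hr.1 (ppd_dvd_card X hX hn (by omega) hr)
    have hnorm := semilinear_of_prime hn hnp hn3 hr X hsolv hcop hxX hxr hx1
    obtain ⟨e, he⟩ := exists_coordinates hn (by omega) hr hxr hx1
    have heX : ∀ g ∈ X, Semilinear e g := fun g hg => he g (hnorm g hg)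
    refine ⟨?_, e, heX⟩
    rcases eq_or_ne n 3 with h3 | h3
    · exact Or.inl h3
    right
    have hle := card_grass_le hn (by omega) X hX e heX
    have h2 := card_grass_mul (p := p) (V := V) (k := 2) hn (by omega)
    simp only [Fin.prod_univ_two, Fin.val_zero, Fin.val_one, pow_zero, pow_one] at h2
    have hnd : n ≠ 4 := fun h => by subst h; norm_num at hnp
    have hn5 : 5 ≤ n := by omega
    have h2n : (p ^ 2 - p) = p * (p - 1) := by rw [Nat.mul_sub, mul_one, sq]
    have hnn : p ^ n - p = p * (p ^ (n - 1) - 1) := by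
      rw [Nat.mul_sub, mul_one, ← pow_succ', Nat.sub_add_cancel (by omega : 1 ≤ n)]
    have hpos : 0 < p ^ n - 1 := by
      have := Nat.one_lt_pow (by omega : n ≠ 0) hp.one_lt
      omega
    have key : p ^ (n - 1) - 1 ≤ n * (p ^ 2 - 1) := by
      have h3 : (p ^ n - 1) * (p * (p ^ (n - 1) - 1)) ≤ (p ^ n - 1) * (p * (n * (p ^ 2 - 1))) := by
        calc (p ^ n - 1) * (p * (p ^ (n - 1) - 1))
            = Nat.card (Grass p V 2) * (p - 1) * ((p ^ 2 - 1) * p) := by
              rw [← hnn, ← h2, h2n]; ring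
          _ ≤ (p ^ n - 1) * n * ((p ^ 2 - 1) * p) := Nat.mul_le_mul_right _ hle
          _ = (p ^ n - 1) * (p * (n * (p ^ 2 - 1))) := by ring
      exact Nat.le_of_mul_le_mul_left (Nat.le_of_mul_le_mul_left h3 hpos) hp.pos
    rcases eq_or_ne n 5 with rfl | hn6
    · refine ⟨rfl, ?_⟩
      by_contra hp2
      have hp3 : 3 ≤ p := by have := hp.two_le; omega
      have h4 : p ^ (5 - 1) - 1 = (p ^ 2 + 1) * (p ^ 2 - 1) := by
        rw [← Nat.sq_sub_sq (p ^ 2) 1]; ring_nf
      rw [h4] at key
      have h9 : 9 ≤ p ^ 2 := Nat.pow_le_pow_left hp3 2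
      have := Nat.le_of_mul_le_mul_right key (by omega)
      omega
    · exfalso
      have hn7 : 7 ≤ n := by
        have : n ≠ 6 := fun h => by subst h; norm_num at hnp
        omega
      have hpow : ∀ j, j + 1 ≤ 2 ^ j := fun j => Nat.lt_two_pow_self
      have hgrow : n < 2 ^ (n - 3) := by
        obtain ⟨j, rfl⟩ : ∃ j, n = j + 7 := ⟨n - 7, by omega⟩
        have := hpow j
        rw [show j + 7 - 3 = j + 4 by omega, pow_add]
        omega
      have h5 : 2 ^ (n - 3) ≤ p ^ (n - 3) := Nat.pow_le_pow_left hp.two_le _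
      have h6 : p ^ (n - 1) = p ^ (n - 3) * p ^ 2 := by rw [← pow_add]; congr 1; omega
      have h7 : 4 ≤ p ^ 2 := Nat.pow_le_pow_left hp.two_le 2
      rw [h6] at key
      obtain ⟨u, hu⟩ : ∃ u, p ^ 2 = u + 1 := ⟨p ^ 2 - 1, by omega⟩
      rw [hu, Nat.add_sub_cancel, mul_add, mul_one] at key
      have h8 : (n + 1) * u ≤ p ^ (n - 3) * u := Nat.mul_le_mul_right u (by omega)
      rw [add_mul, one_mul] at h8
      omega
  · exfalso
    have hn4 : 4 ≤ n := by
      by_contra h
      exact hnp ((show n = 3 by omega) ▸ Nat.prime_three)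
    obtain ⟨s, hs⟩ : ∃ s, Ppd p s (n - 1) :=
      Zsigmondy.exists_ppd hp.one_lt (by omega)
        (fun h => hnp (by rw [show n = 7 by omega]; norm_num)) fun h => by omega
    have h1 := Nat.le_of_dvd (by have := hs.1.two_le; omega) (hs.dvd_sub_one (by omega))
    have hne : s ≠ n := fun h => hnp (h ▸ hs.1)
    refine not_ppd_pair X hsolv hcop hn (by omega) hr hs (fun hd => ?_) (by omega)
      (ppd_dvd_card X hX hn (by omega) hr) (ppd_pred_dvd_card X hX hn hn4 hs)
    have h2 : n - 1 ∣ 1 := by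
      have := Nat.dvd_sub hd (dvd_refl (n - 1))
      rwa [show n - (n - 1) = 1 by omega] at this
    rw [Nat.dvd_one] at h2
    omega

end CfsgLib.FgsSix.SolvableLinear
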