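import Mathlib
import Cfsg.Agent.FGS.FieldModule

/-!
# Linear maps of primitive prime divisor order

An operator of order `r`, a primitive prime divisor of `p ^ n - 1`, on an `n`-dimensional space over
`ZMod p` is irreducible, its commutant is a field with `p ^ n` elements, and it centralises every
abelian group of `p'`-operators it normalises.
-/

set_option autoImplicit false

namespace CfsgLib.FgsSix.SolvableLinear

open Module

variable {p : ℕ} [Fact p.Prime] {V : Type*} [AddCommGroup V] [Module (ZMod p) V] [Finite V]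

/-- `r` is a prime for which `p` has order `n`. -/
def Ppd (p r n : ℕ) : Prop := r.Prime ∧ orderOf (p : ZMod r) = n

theorem Ppd.dvd_of_dvd {r n k : ℕ} (h : Ppd p r n) (hk : r ∣ p ^ k - 1) : n ∣ k := by
  have h1 : ((p ^ k - 1 : ℕ) : ZMod r) = 0 := (ZMod.natCast_eq_zero_iff _ _).2 hk
  rw [Nat.cast_sub (Nat.one_le_pow _ _ (Fact.out : p.Prime).pos), Nat.cast_pow, Nat.cast_one,
    sub_eq_zero] at h1
  exact h.2 ▸ orderOf_dvd_of_pow_eq_one h1

theorem Ppd.dvd {r n k : ℕ} (h : Ppd p r n) (hk : n ∣ k) : r ∣ p ^ k - 1 := by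
  have h1 : (p : ZMod r) ^ k = 1 := orderOf_dvd_iff_pow_eq_one.1 (h.2.symm ▸ hk)
  rw [← ZMod.natCast_eq_zero_iff, Nat.cast_sub (Nat.one_le_pow _ _ (Fact.out : p.Prime).pos),
    Nat.cast_pow, Nat.cast_one, h1, sub_self]

theorem Ppd.ne {r n : ℕ} (h : Ppd p r n) (hn : n ≠ 0) : r ≠ p := by
  rintro rfl
  refine hn (h.2 ▸ ?_)
  rw [ZMod.natCast_self]
  exact orderOf_zero _

theorem Ppd.dvd_sub_one {r n : ℕ} (h : Ppd p r n) (hn : n ≠ 0) : n ∣ r - 1 := by
  haveI := Fact.mk h.1
  rw [← h.2]
  refine orderOf_dvd_of_pow_eq_one (ZMod.pow_card_sub_one_eq_one fun h0 => ?_)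
  rw [ZMod.natCast_eq_zero_iff] at h0
  exact h.ne hn ((Nat.prime_dvd_prime_iff_eq h.1 Fact.out).1 h0)

theorem Ppd.lt {r n : ℕ} (h : Ppd p r n) (hn : n ≠ 0) : n < r := by
  have h1 := h.1.two_le
  have := Nat.le_of_dvd (by omega) (h.dvd_sub_one hn)
  omega

/-- Two powers of `p` congruent modulo a primitive prime divisor. -/
theorem Ppd.dvd_sub {r n a b : ℕ} (h : Ppd p r n) (hn : n ≠ 0) (hab : b ≤ a)
    (hmod : p ^ a ≡ p ^ b [MOD r]) : n ∣ a - b := by
  refine h.dvd_of_dvd ?_
  have h1 : r ∣ p ^ a - p ^ b := (Nat.modEq_iff_dvd' (Nat.pow_le_pow_right (Fact.out : p.Prime).pos hab)).1 hmod.symm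
  rw [show p ^ a - p ^ b = p ^ b * (p ^ (a - b) - 1) by
    rw [Nat.mul_sub, mul_one, ← pow_add, Nat.add_sub_cancel' hab]] at h1
  exact (h.1.dvd_mul.1 h1).resolve_left fun hd =>
    h.ne hn ((Nat.prime_dvd_prime_iff_eq h.1 Fact.out).1 (h.1.dvd_of_dvd_pow hd))

theorem finite_end : Finite (Module.End (ZMod p) V) :=
  Finite.of_injective (fun f : Module.End (ZMod p) V => (f : V → V)) DFunLike.coe_injective

theorem natCard_space {W : Type*} [AddCommGroup W] [Module (ZMod p) W] [Finite W] :
    Nat.card W = p ^ finrank (ZMod p) W := by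
  rw [Module.natCard_eq_pow_finrank (K := ZMod p), Nat.card_zmod]

/-- An element of prime order permuting a set: count of the fixed points. -/
theorem card_modEq_fixed {α : Type*} [Finite α] (f : α → α) {s : ℕ} (hs : s.Prime)
    (hf : f^[s] = id) : Nat.card α ≡ Nat.card {a : α // f a = a} [MOD s] := by
  classical
  haveI := Fact.mk hs
  haveI := Fintype.ofFinite α
  have key : ∀ k : ℕ, ((show Function.End α from f) ^ k : Function.End α) = f^[k] := by
    intro k
    induction k with
    | zero => rfl
    | succ k ih =>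
      rw [pow_succ, ih, Function.iterate_succ]
      rfl
  have h := Equiv.Perm.card_fixedPoints_modEq (f := (show Function.End α from f)) (p := s) (n := 1)
    (by rw [pow_one, key, hf]; rfl)
  rw [← Nat.card_eq_fintype_card, ← Nat.card_eq_fintype_card] at h
  exact h

theorem conj_cancel {R : Type*} [Monoid R] (u : Rˣ) (a : R) :
    (↑u⁻¹ : R) * ((u : R) * a * (↑u⁻¹ : R)) * (u : R) = a := by
  simp [mul_assoc]

theorem conj_eq_of_eq {R : Type*} [Monoid R] (u w : Rˣ) (a : R)
    (h : (u : R) * a * (↑u⁻¹ : R) = (w : R) * a * (↑w⁻¹ : R)) :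
    (↑(u⁻¹ * w) : R) * a * (↑(u⁻¹ * w)⁻¹ : R) = a := by
  rw [mul_inv_rev, inv_inv, Units.val_mul, Units.val_mul]
  calc (↑u⁻¹ : R) * (w : R) * a * ((↑w⁻¹ : R) * (u : R))
      = (↑u⁻¹ : R) * ((w : R) * a * (↑w⁻¹ : R)) * (u : R) := by simp only [mul_assoc]
    _ = a := by rw [← h, conj_cancel]

theorem units_iterate (g : (Module.End (ZMod p) V)ˣ) (k : ℕ) (v : V) :
    (⇑(g : Module.End (ZMod p) V))^[k] v = (↑(g ^ k) : Module.End (ZMod p) V) v := by
  induction k generalizing v with
  | zero => simp
  | succ k ih =>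
    rw [Function.iterate_succ_apply, ih, pow_succ, Units.val_mul, Module.End.mul_apply]

/-- An element of prime order permuting a stable set of vectors. -/
theorem card_set_modEq (g : (Module.End (ZMod p) V)ˣ) {s : ℕ} (hs : s.Prime) (hg : g ^ s = 1)
    (S : Set V) (hS : ∀ v ∈ S, (g : Module.End (ZMod p) V) v ∈ S) :
    Nat.card ↥S ≡ Nat.card {v : V // v ∈ S ∧ (g : Module.End (ZMod p) V) v = v} [MOD s] := by
  let f : ↥S → ↥S := fun v => ⟨(g : Module.End (ZMod p) V) v, hS v v.2⟩
  have hf : f^[s] = id := by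
    funext v
    apply Subtype.ext
    have : ∀ k, ((f^[k] v : ↥S) : V) = (⇑(g : Module.End (ZMod p) V))^[k] (v : V) := by
      intro k
      induction k with
      | zero => rfl
      | succ k ih => rw [Function.iterate_succ_apply', Function.iterate_succ_apply', ← ih]
    rw [this, units_iterate, hg]
    rfl
  have h := card_modEq_fixed f hs hf
  rwa [Nat.card_congr (Equiv.subtypeEquivRight (p := fun a => f a = a)
      (q := fun a : ↥S => (g : Module.End (ZMod p) V) (a : V) = a) fun a => Subtype.ext_iff),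
    Nat.card_congr (Equiv.subtypeSubtypeEquivSubtypeInter (· ∈ S)
      (fun v => (g : Module.End (ZMod p) V) v = v))] at h

/-- The fixed vectors. -/
def fixedSpace (g : Module.End (ZMod p) V) : Submodule (ZMod p) V := LinearMap.ker (g - 1)

theorem mem_fixedSpace {g : Module.End (ZMod p) V} {v : V} : v ∈ fixedSpace g ↔ g v = v := by
  simp [fixedSpace, sub_eq_zero]

theorem card_modEq_fixedSpace (g : (Module.End (ZMod p) V)ˣ) {s : ℕ} (hs : s.Prime)
    (hg : g ^ s = 1) :
    Nat.card V ≡ Nat.card ↥(fixedSpace (g : Module.End (ZMod p) V)) [MOD s] := by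
  have h := card_set_modEq g hs hg Set.univ fun _ _ => trivial
  rwa [Nat.card_congr (Equiv.Set.univ V), Nat.card_congr (Equiv.subtypeEquivRight
    (q := fun v => v ∈ fixedSpace (g : Module.End (ZMod p) V)) fun v => by
      simp [mem_fixedSpace])] at h

theorem fixedSpace_ne_top {g : (Module.End (ZMod p) V)ˣ} (hg : g ≠ 1) :
    fixedSpace (g : Module.End (ZMod p) V) ≠ ⊤ := fun h => hg (Units.ext (LinearMap.ext fun v =>
  mem_fixedSpace.1 (h ▸ Submodule.mem_top)))

/-- Irreducibility. -/
def Irred (x : Module.End (ZMod p) V) : Prop :=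
  ∀ W : Submodule (ZMod p) V, (∀ w ∈ W, x w ∈ W) → W = ⊥ ∨ W = ⊤

/-- An operator of primitive prime divisor order is irreducible. -/
theorem irred_of_ppd {n r : ℕ} (hn : finrank (ZMod p) V = n) (hn0 : n ≠ 0) (hr : Ppd p r n)
    {x : (Module.End (ZMod p) V)ˣ} (hx : x ^ r = 1) (hx1 : x ≠ 1) :
    Irred (x : Module.End (ZMod p) V) := by
  have hfix : fixedSpace (x : Module.End (ZMod p) V) = ⊥ := by
    have h := card_modEq_fixedSpace x hr.1 hx
    rw [natCard_space (p := p), natCard_space (p := p), hn] at h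
    have hlt : finrank (ZMod p) ↥(fixedSpace (x : Module.End (ZMod p) V)) < n :=
      hn ▸ Submodule.finrank_lt (fixedSpace_ne_top hx1)
    have hd := hr.dvd_sub hn0 hlt.le h
    have h3 := Nat.le_of_dvd (by omega) hd
    exact Submodule.finrank_eq_zero.1 (by omega)
  intro W hW
  have h := card_set_modEq x hr.1 hx (W : Set V) hW
  have h2 : Nat.card {v : V // v ∈ (W : Set V) ∧ (x : Module.End (ZMod p) V) v = v} = 1 := by
    haveI : Subsingleton {v : V // v ∈ (W : Set V) ∧ (x : Module.End (ZMod p) V) v = v} :=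
      ⟨fun a b => Subtype.ext (by
        have ha : (a : V) ∈ fixedSpace (x : Module.End (ZMod p) V) := mem_fixedSpace.2 a.2.2
        have hb : (b : V) ∈ fixedSpace (x : Module.End (ZMod p) V) := mem_fixedSpace.2 b.2.2
        rw [hfix, Submodule.mem_bot] at ha hb
        rw [ha, hb])⟩
    haveI : Nonempty {v : V // v ∈ (W : Set V) ∧ (x : Module.End (ZMod p) V) v = v} :=
      ⟨⟨0, W.zero_mem, map_zero _⟩⟩
    exact Nat.card_eq_one_iff_unique.2 ⟨inferInstance, inferInstance⟩
  rw [h2, SetLike.coe_sort_coe, natCard_space (p := p), ← pow_zero p] at h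
  have hd := hr.dvd_sub hn0 (Nat.zero_le _) h
  have hle : finrank (ZMod p) ↥W ≤ n := hn ▸ Submodule.finrank_le W
  rcases Nat.eq_zero_or_pos (finrank (ZMod p) ↥W) with h0 | hpos
  · exact Or.inl (Submodule.finrank_eq_zero.1 h0)
  · have h3 := Nat.le_of_dvd (by omega) hd
    exact Or.inr (Submodule.eq_top_of_finrank_eq (by omega))

/-- The commutant of an operator. -/
def commutant (x : Module.End (ZMod p) V) : Subalgebra (ZMod p) (Module.End (ZMod p) V) :=
  Subalgebra.centralizer (ZMod p) {x}

theorem mem_commutant {x f : Module.End (ZMod p) V} : f ∈ commutant x ↔ x * f = f * x := by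
  simp [commutant, Subalgebra.mem_centralizer_iff]

theorem injective_of_mem_commutant {x f : Module.End (ZMod p) V} (hx : Irred x)
    (hf : f ∈ commutant x) (hf0 : f ≠ 0) : Function.Injective f := by
  rcases hx (LinearMap.ker f) fun w hw => by
    rw [LinearMap.mem_ker] at hw ⊢
    rw [← Module.End.mul_apply, ← mem_commutant.1 hf, Module.End.mul_apply, hw, map_zero] with h | h
  · exact LinearMap.ker_eq_bot.1 h
  · exact absurd (LinearMap.ker_eq_top.1 h) hf0

/-- A commuting subalgebra without zero divisors containing the conjugates of `a` under an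
operator of prime order above the dimension: they are all equal. -/
theorem commute_of_few_conj {n : ℕ} (hn : finrank (ZMod p) V = n)
    (B : Subalgebra (ZMod p) (Module.End (ZMod p) V)) [Nontrivial B] [NoZeroDivisors B]
    (hB : ∀ f ∈ B, ∀ g ∈ B, f * g = g * f) (g : (Module.End (ZMod p) V)ˣ) {s : ℕ} (hs : s.Prime)
    (hns : n < s) (hg : g ^ s = 1) (a : Module.End (ZMod p) V)
    (hconj : ∀ i : ℕ, ((g ^ i : (Module.End (ZMod p) V)ˣ) : Module.End (ZMod p) V) * a *
      ((g ^ i)⁻¹ : (Module.End (ZMod p) V)ˣ) ∈ B) :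
    (g : Module.End (ZMod p) V) * a = a * g := by
  classical
  by_contra hne
  letI : CommRing B := { (inferInstance : Ring B) with
    mul_comm := fun f f' => Subtype.ext (hB _ f.2 _ f'.2) }
  haveI : IsDomain B := NoZeroDivisors.to_isDomain B
  set P := a.charpoly with hP
  have hP0 : P ≠ 0 := a.charpoly_monic.ne_zero
  have hdeg : P.natDegree = n := by rw [hP, LinearMap.charpoly_natDegree, hn]
  let c : Fin s → B := fun i => ⟨_, hconj i⟩
  have hroot : ∀ i, c i ∈ P.aroots B := by
    intro i
    rw [Polynomial.mem_aroots]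
    refine ⟨hP0, Subtype.ext ?_⟩
    refine (Polynomial.aeval_algHom_apply (Subalgebra.val B) (c i) P).symm.trans ?_
    let u := g ^ (i : ℕ)
    let φ : Module.End (ZMod p) V →ₐ[ZMod p] Module.End (ZMod p) V :=
      (MulSemiringAction.toAlgHom (ZMod p) (Module.End (ZMod p) V) (ConjAct.toConjAct u))
    have hφ : Subalgebra.val B (c i) = φ a := by
      simp [φ, c, u, ConjAct.units_smul_def]
    rw [hφ, Polynomial.aeval_algHom_apply, hP, a.aeval_self_charpoly, map_zero]
    rfl
  have hinj : Function.Injective c := by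
    have hfix : ∀ (u : (Module.End (ZMod p) V)ˣ), (u : Module.End (ZMod p) V) * a *
        (↑u⁻¹ : Module.End (ZMod p) V) = a → u ∈ Subgroup.zpowers g → u = 1 := by
      intro u hu hmem
      by_contra hu1
      refine hne ?_
      obtain ⟨k, hk⟩ : g ∈ Subgroup.zpowers u := by
        haveI := Fact.mk hs
        have hg1 : orderOf g = s := orderOf_eq_prime hg fun h => hne (by simp [h])
        have hu' : orderOf u = s := orderOf_eq_prime (by
          obtain ⟨j, rfl⟩ := hmem
          simp only []
          rw [← zpow_natCast, ← zpow_mul, mul_comm, zpow_mul, zpow_natCast, hg, one_zpow]) hu1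
        have : Subgroup.zpowers u = Subgroup.zpowers g := by
          haveI := finite_end (p := p) (V := V)
          refine Subgroup.eq_of_le_of_card_ge (Subgroup.zpowers_le.2 hmem) ?_
          rw [Nat.card_zpowers, Nat.card_zpowers, hg1, hu']
        rw [this]
        exact Subgroup.mem_zpowers g
      have hc : Commute (u : Module.End (ZMod p) V) a := by
        show _ = _
        calc (u : Module.End (ZMod p) V) * a = (u : Module.End (ZMod p) V) * a * (↑u⁻¹ : Module.End (ZMod p) V) * u := by
              rw [Units.inv_mul_cancel_right]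
          _ = a * u := by rw [hu]
      rw [← hk]
      exact (Commute.units_zpow_left hc k).eq
    intro i j hij
    have hij' := congrArg Subtype.val hij
    simp only [c] at hij'
    have h2 := conj_eq_of_eq _ _ _ hij'
    have h3 := hfix _ h2 (mul_mem (inv_mem (pow_mem (Subgroup.mem_zpowers g) _))
      (pow_mem (Subgroup.mem_zpowers g) _))
    rw [inv_mul_eq_one, pow_inj_mod, orderOf_eq_prime (hp := ⟨hs⟩) hg (fun h => hne (by simp [h])),
      Nat.mod_eq_of_lt i.2, Nat.mod_eq_of_lt j.2] at h3
    exact Fin.ext h3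
  have h1 : s ≤ (P.aroots B).card := by
    have h2 : (Finset.univ.image c) ⊆ (P.aroots B).toFinset := fun b hb => by
      obtain ⟨i, -, rfl⟩ := Finset.mem_image.1 hb
      exact Multiset.mem_toFinset.2 (hroot i)
    have := (Finset.card_le_card h2).trans (Multiset.toFinset_card_le _)
    rwa [Finset.card_image_of_injective _ hinj, Finset.card_fin] at this
  have h4 : (P.aroots B).card ≤ n := hdeg ▸ (Polynomial.card_roots' _).trans Polynomial.natDegree_map_le
  omega

variable {n r : ℕ} {x : (Module.End (ZMod p) V)ˣ}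

theorem commutant_noZeroDivisors (hx : Irred (x : Module.End (ZMod p) V)) :
    NoZeroDivisors (commutant (x : Module.End (ZMod p) V)) := by
  refine ⟨fun {a b} hab => ?_⟩
  by_cases ha : a = 0
  · exact Or.inl ha
  refine Or.inr (Subtype.ext (LinearMap.ext fun v => ?_))
  have hinj := injective_of_mem_commutant hx a.2 fun h => ha (Subtype.ext h)
  apply hinj
  have h := LinearMap.congr_fun (congrArg Subtype.val hab) v
  simpa using h

theorem nontrivial_space (hn : finrank (ZMod p) V = n) (hn0 : n ≠ 0) : Nontrivial V :=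
  Module.nontrivial_of_finrank_pos (R := ZMod p) (by omega)

/-- The commutant of an irreducible operator is a field. -/
theorem commutant_isField (hn : finrank (ZMod p) V = n) (hn0 : n ≠ 0)
    (hx : Irred (x : Module.End (ZMod p) V)) :
    IsField (commutant (x : Module.End (ZMod p) V)) := by
  haveI := nontrivial_space hn hn0
  haveI := finite_end (p := p) (V := V)
  haveI := commutant_noZeroDivisors hx
  haveI : IsDomain (commutant (x : Module.End (ZMod p) V)) := NoZeroDivisors.to_isDomain _
  exact Finite.isDomain_to_isField _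

theorem commutant_comm (hn : finrank (ZMod p) V = n) (hn0 : n ≠ 0)
    (hx : Irred (x : Module.End (ZMod p) V)) :
    ∀ f ∈ commutant (x : Module.End (ZMod p) V), ∀ g ∈ commutant (x : Module.End (ZMod p) V),
      f * g = g * f :=
  fun f hf g hg => congrArg Subtype.val ((commutant_isField hn hn0 hx).mul_comm ⟨f, hf⟩ ⟨g, hg⟩)

theorem eval_injective (hn : finrank (ZMod p) V = n) (hn0 : n ≠ 0)
    (hx : Irred (x : Module.End (ZMod p) V)) {v₀ : V} (hv₀ : v₀ ≠ 0) :
    Function.Injective (fun f : commutant (x : Module.End (ZMod p) V) =>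
      (f : Module.End (ZMod p) V) v₀) := by
  intro a b h
  by_contra hab
  refine hv₀ (injective_of_mem_commutant hx (a - b).2 (fun h' => hab (sub_eq_zero.1 (Subtype.ext h'))) ?_)
  rw [map_zero, Subalgebra.coe_sub, LinearMap.sub_apply]
  exact sub_eq_zero.2 h

/-- The order of an element of the commutant field. -/
theorem dvd_card_commutant_sub_one (hn : finrank (ZMod p) V = n) (hn0 : n ≠ 0)
    (hx : Irred (x : Module.End (ZMod p) V)) {z : (Module.End (ZMod p) V)ˣ} {s : ℕ} (hs : s.Prime)
    (hz : (z : Module.End (ZMod p) V) ∈ commutant (x : Module.End (ZMod p) V)) (hzs : z ^ s = 1)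
    (hz1 : z ≠ 1) : s ∣ Nat.card (commutant (x : Module.End (ZMod p) V)) - 1 := by
  haveI := finite_end (p := p) (V := V)
  haveI := Fintype.ofFinite (commutant (x : Module.End (ZMod p) V))
  letI := (commutant_isField hn hn0 hx).toField
  haveI := Fact.mk hs
  let z' : commutant (x : Module.End (ZMod p) V) := ⟨z, hz⟩
  have hne : z' ≠ 0 := fun h => by
    haveI := nontrivial_space hn hn0
    exact z.ne_zero (congrArg Subtype.val h)
  have hord : orderOf z' = s := by
    refine orderOf_eq_prime (Subtype.ext ?_) fun h => hz1 (Units.ext (congrArg Subtype.val h))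
    rw [SubmonoidClass.coe_pow]
    show (z : Module.End (ZMod p) V) ^ s = _
    rw [← Units.val_pow_eq_pow_val, hzs]
    rfl
  rw [← hord, Nat.card_eq_fintype_card]
  exact orderOf_dvd_of_pow_eq_one (FiniteField.pow_card_sub_one_eq_one _ hne)

/-- The commutant of an operator of primitive prime divisor order has `p ^ n` elements. -/
theorem card_commutant (hn : finrank (ZMod p) V = n) (hn0 : n ≠ 0) (hr : Ppd p r n)
    (hxr : x ^ r = 1) (hx1 : x ≠ 1) :
    Nat.card (commutant (x : Module.End (ZMod p) V)) = p ^ n := by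
  have hx := irred_of_ppd hn hn0 hr hxr hx1
  haveI := nontrivial_space hn hn0
  haveI := finite_end (p := p) (V := V)
  obtain ⟨v₀, hv₀⟩ := exists_ne (0 : V)
  have hd := dvd_card_commutant_sub_one hn hn0 hx hr.1 (z := x) (mem_commutant.2 rfl) hxr hx1
  have hle := Nat.card_le_card_of_injective _ (eval_injective hn hn0 hx hv₀)
  rw [natCard_space (p := p) (W := V), hn] at hle
  rw [natCard_space (p := p)] at hd hle ⊢
  have h1 := (Nat.pow_le_pow_iff_right (Fact.out : p.Prime).one_lt).1 hle
  have h2 := hr.dvd_of_dvd hd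
  have h3 : 0 < finrank (ZMod p) (commutant (x : Module.End (ZMod p) V)) := Module.finrank_pos
  have h4 := Nat.le_of_dvd h3 h2
  congr 1
  omega

theorem dvd_pow_sub_one (hn : finrank (ZMod p) V = n) (hn0 : n ≠ 0) (hr : Ppd p r n)
    (hxr : x ^ r = 1) (hx1 : x ≠ 1) {z : (Module.End (ZMod p) V)ˣ} {s : ℕ} (hs : s.Prime)
    (hz : (z : Module.End (ZMod p) V) * x = x * z) (hzs : z ^ s = 1) (hz1 : z ≠ 1) :
    s ∣ p ^ n - 1 := by
  have := dvd_card_commutant_sub_one hn hn0 (irred_of_ppd hn hn0 hr hxr hx1) hs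
    (mem_commutant.2 hz.symm) hzs hz1
  rwa [card_commutant hn hn0 hr hxr hx1] at this

/-- An operator of prime order above the dimension centralises the abelian `p'`-groups it
normalises, provided it is irreducible. -/
theorem commute_of_normal (hn : finrank (ZMod p) V = n) (hn0 : n ≠ 0) {s : ℕ} (hs : s.Prime)
    (hns : n < s) (hxs : x ^ s = 1) (hx : Irred (x : Module.End (ZMod p) V))
    (A : Subgroup (Module.End (ZMod p) V)ˣ) (hA : ∀ a ∈ A, ∀ b ∈ A, a * b = b * a)
    (hcop : (Nat.card A).Coprime p) (hnorm : ∀ a ∈ A, x * a * x⁻¹ ∈ A) :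
    ∀ a ∈ A, x * a = a * x := by
  classical
  haveI := nontrivial_space hn hn0
  haveI := finite_end (p := p) (V := V)
  set S : Set (Module.End (ZMod p) V) := Units.val '' (A : Set (Module.End (ZMod p) V)ˣ) with hS
  set B := Algebra.adjoin (ZMod p) S with hBdef
  have hgen : ∀ a ∈ A, (a : Module.End (ZMod p) V) ∈ B := fun a ha =>
    Algebra.subset_adjoin ⟨a, ha, rfl⟩
  have hBcomm : ∀ f ∈ B, ∀ g ∈ B, f * g = g * f := by
    intro f hf g hg
    refine (Algebra.commute_of_mem_adjoin_of_forall_mem_commute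
      (a := f) hg fun g' hg' => ?_).eq
    refine (Algebra.commute_of_mem_adjoin_of_forall_mem_commute (a := g') hf fun f' hf' => ?_).symm
    obtain ⟨a, ha, rfl⟩ := hf'
    obtain ⟨b, hb, rfl⟩ := hg'
    show (_ : Module.End (ZMod p) V) * _ = _
    rw [← Units.val_mul, ← Units.val_mul, hA b hb a ha]
  haveI hchar : CharP (Module.End (ZMod p) V) p :=
    charP_of_injective_algebraMap (algebraMap (ZMod p) (Module.End (ZMod p) V)).injective p
  set q := p ^ Nat.totient (Nat.card A) with hq
  have hq2 : 2 ≤ q := by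
    refine le_trans (Fact.out : p.Prime).two_le (Nat.le_self_pow ?_ p)
    exact (Nat.totient_pos.2 Nat.card_pos).ne'
  have hpow : ∀ f ∈ B, f ^ q = f := by
    intro f hf
    induction hf using Algebra.adjoin_induction with
    | mem f hf =>
      obtain ⟨a, ha, rfl⟩ := hf
      rw [← Units.val_pow_eq_pow_val]
      congr 1
      have h1 : q % Nat.card A = 1 % Nat.card A :=
        Nat.ModEq.pow_totient hcop.symm
      have h2 : (⟨a, ha⟩ : A) ^ q = ⟨a, ha⟩ := by
        rw [← pow_mod_natCard, h1, pow_mod_natCard, pow_one]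
      exact congrArg Subtype.val h2
    | algebraMap c =>
      rw [← map_pow, hq, ZMod.pow_card_pow]
    | add f g hf hg ihf ihg =>
      rw [hq, add_pow_char_pow_of_commute _ _ (hBcomm f hf g hg), ← hq, ihf, ihg]
    | mul f g hf hg ihf ihg =>
      rw [Commute.mul_pow (hBcomm f hf g hg), ihf, ihg]
  let φ : Module.End (ZMod p) V →ₐ[ZMod p] Module.End (ZMod p) V :=
    MulSemiringAction.toAlgHom (ZMod p) (Module.End (ZMod p) V) (ConjAct.toConjAct x)
  have hφ : ∀ f, φ f = (x : Module.End (ZMod p) V) * f * (↑x⁻¹ : Module.End (ZMod p) V) := fun f => by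
    simp [φ, ConjAct.units_smul_def]
  have hconjB : ∀ f ∈ B, φ f ∈ B := by
    intro f hf
    have h1 : φ f ∈ B.map φ := ⟨f, hf, rfl⟩
    rw [hBdef, AlgHom.map_adjoin] at h1
    refine Algebra.adjoin_le ?_ h1
    rintro _ ⟨_, ⟨a, ha, rfl⟩, rfl⟩
    rw [hφ]
    exact hgen _ (hnorm a ha)
  have hiter : ∀ i : ℕ, ∀ f ∈ B, ((x ^ i : (Module.End (ZMod p) V)ˣ) : Module.End (ZMod p) V) * f *
      ((x ^ i)⁻¹ : (Module.End (ZMod p) V)ˣ) ∈ B := by
    intro i
    induction i with
    | zero => intro f hf; simpa using hf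
    | succ i ih =>
      intro f hf
      have := ih _ (hconjB f hf)
      rw [hφ] at this
      rw [pow_succ, mul_inv_rev, Units.val_mul, Units.val_mul]
      simpa only [mul_assoc] using this
  -- idempotents
  let T : Set (Module.End (ZMod p) V) := {e | e ∈ B ∧ e ≠ 0 ∧ e * e = e}
  have hT1 : (1 : Module.End (ZMod p) V) ∈ T := ⟨one_mem B, one_ne_zero, mul_one 1⟩
  obtain ⟨e, heT, hmin⟩ := Set.exists_min_image T (fun e => Nat.card ↥(LinearMap.range e))
    (Set.toFinite _) ⟨1, hT1⟩
  obtain ⟨heB, he0, hee⟩ := heT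
  -- every minimal idempotent absorbs
  have habs : ∀ e' ∈ T, (∀ f ∈ T, Nat.card ↥(LinearMap.range e') ≤ Nat.card ↥(LinearMap.range f)) →
      ∀ f ∈ T, e' * f ≠ 0 → e' * f = e' := by
    intro e' he' hmin' f hf hne
    have hc := hBcomm e' he'.1 f hf.1
    have hefT : e' * f ∈ T := ⟨mul_mem he'.1 hf.1, hne, by
      rw [mul_assoc, ← mul_assoc f, ← hc, ← mul_assoc, ← mul_assoc, he'.2.2, mul_assoc, hf.2.2]⟩
    have hsub : LinearMap.range (e' * f) ≤ LinearMap.range e' := by
      rintro _ ⟨v, rfl⟩
      exact ⟨f v, rfl⟩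
    have heq := Submodule.eq_of_le_of_finrank_le hsub (by
      have h1 := hmin' _ hefT
      rw [natCard_space (p := p), natCard_space (p := p)] at h1
      exact (Nat.pow_le_pow_iff_right (Fact.out : p.Prime).one_lt).1 h1)
    refine LinearMap.ext fun v => ?_
    obtain ⟨w, hw⟩ : e' v ∈ LinearMap.range (e' * f) := heq ▸ ⟨v, rfl⟩
    calc (e' * f) v = ((e' * f) * e') v := by
          rw [mul_assoc, ← hc, ← mul_assoc, he'.2.2]
      _ = (e' * f) (e' v) := rfl
      _ = e' v := by rw [← hw, ← Module.End.mul_apply, hefT.2.2]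
  let E : Fin s → Module.End (ZMod p) V := fun i =>
    ((x ^ (i : ℕ) : (Module.End (ZMod p) V)ˣ) : Module.End (ZMod p) V) * e *
      ((x ^ (i : ℕ))⁻¹ : (Module.End (ZMod p) V)ˣ)
  -- the minimal idempotent commutes with `x`
  have hxe : (x : Module.End (ZMod p) V) * e = e * x := by
    by_contra hne
    obtain ⟨w, hw⟩ : ∃ w, e w ≠ 0 := by
      by_contra hall
      push Not at hall
      exact he0 (LinearMap.ext hall)
    have hET : ∀ i, E i ∈ T := fun i => by
      refine ⟨hiter _ _ heB, fun h => he0 ?_, ?_⟩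
      · rw [← conj_cancel (x ^ (i : ℕ)) e]
        show _ * E i * _ = 0
        rw [h, mul_zero, zero_mul]
      · show (_ * e * _) * (_ * e * _) = _ * e * _
        simp only [mul_assoc, Units.inv_mul_cancel_left]
        rw [← mul_assoc e, hee]
    have hEmin : ∀ i, ∀ f ∈ T, Nat.card ↥(LinearMap.range (E i)) ≤ Nat.card ↥(LinearMap.range f) := by
      intro i f hf
      refine le_trans ?_ (hmin f hf)
      have hsub : Set.range (E i) ⊆ (fun v => (↑(x ^ (i : ℕ)) : Module.End (ZMod p) V) v) '' Set.range e := by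
        rintro _ ⟨v, rfl⟩
        exact ⟨_, ⟨_, rfl⟩, rfl⟩
      calc Nat.card ↥(LinearMap.range (E i)) = Nat.card ↥(Set.range (E i)) := rfl
        _ ≤ Nat.card ↥((fun v => (↑(x ^ (i : ℕ)) : Module.End (ZMod p) V) v) '' Set.range e) :=
            Nat.card_mono (Set.toFinite _) hsub
        _ ≤ Nat.card ↥(Set.range e) := Nat.card_image_le (Set.toFinite _)
        _ = Nat.card ↥(LinearMap.range e) := rfl
    have hdist : Function.Injective E := by
      intro i j hij
      by_contra hne'
      refine hne ?_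
      -- a nontrivial power of `x` commutes with `e`
      wlog hlt : (i : ℕ) < (j : ℕ) generalizing i j
      · exact this hij.symm (Ne.symm hne') (by
          have : (i : ℕ) ≠ j := fun h => hne' (Fin.ext h)
          omega)
      set k := (j : ℕ) - i with hk
      have hcomm : Commute ((x ^ k : (Module.End (ZMod p) V)ˣ) : Module.End (ZMod p) V) e := by
        have hj : x ^ (j : ℕ) = x ^ (i : ℕ) * x ^ k := by rw [← pow_add]; congr 1; omega
        have h2 := conj_eq_of_eq (x ^ (i : ℕ)) (x ^ (j : ℕ)) e hij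
        rw [hj, inv_mul_cancel_left] at h2
        generalize x ^ k = u at h2 ⊢
        show _ = _
        conv_rhs => rw [← h2]
        rw [Units.inv_mul_cancel_right]
      obtain ⟨l, hl⟩ : ∃ l : ℕ, (x ^ k) ^ l = x := by
        have hcop' : k.Coprime (orderOf x) := by
          rw [orderOf_eq_prime (hp := ⟨hs⟩) hxs (fun h => hne (by simp [h]))]
          exact (hs.coprime_iff_not_dvd.2 fun h => by
            have := Nat.le_of_dvd (by omega) h; omega).symm
        exact exists_pow_eq_self_of_coprime hcop'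
      have := (hcomm.pow_left l).eq
      rw [← Units.val_pow_eq_pow_val, hl] at this
      exact this
    have horth : ∀ i j, i ≠ j → E i * E j = 0 := by
      intro i j hij
      by_contra h
      refine hij (hdist ?_)
      have h1 := habs (E i) (hET i) (hEmin i) (E j) (hET j) h
      have h2 := habs (E j) (hET j) (hEmin j) (E i) (hET i)
        (by rwa [hBcomm _ (hET j).1 _ (hET i).1])
      rw [← h1, hBcomm _ (hET i).1 _ (hET j).1, h2]
    let w' : Fin s → V := fun i => E i ((↑(x ^ (i : ℕ)) : Module.End (ZMod p) V) w)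
    have hw' : ∀ i, w' i ≠ 0 := by
      intro i h
      refine hw ?_
      have h2 : w' i = (↑(x ^ (i : ℕ)) : Module.End (ZMod p) V) (e w) := by
        show E i _ = _
        simp only [E, Module.End.mul_apply]
        have hc : ∀ (u : (Module.End (ZMod p) V)ˣ) (v : V),
            (↑u⁻¹ : Module.End (ZMod p) V) ((u : Module.End (ZMod p) V) v) = v := fun u v => by
          rw [← Module.End.mul_apply, Units.inv_mul, Module.End.one_apply]
        rw [hc]
      have h3 := congrArg (fun v => (↑(x ^ (i : ℕ))⁻¹ : Module.End (ZMod p) V) v) (h2.symm.trans h)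
      simp only [map_zero] at h3
      rwa [← Module.End.mul_apply, Units.inv_mul, Module.End.one_apply] at h3
    have hli : LinearIndependent (ZMod p) w' := by
      rw [Fintype.linearIndependent_iff]
      intro c hc i
      have h2 := congrArg (E i) hc
      rw [map_sum, map_zero, Finset.sum_eq_single i] at h2
      · have h3 : E i (w' i) = w' i := by
          show E i (E i _) = E i _
          rw [← Module.End.mul_apply, (hET i).2.2]
        rw [map_smul, h3] at h2
        exact (smul_eq_zero.1 h2).resolve_right (hw' i)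
      · intro j _ hji
        show E i (c j • E j _) = 0
        rw [map_smul, ← Module.End.mul_apply, horth i j (Ne.symm hji), LinearMap.zero_apply, smul_zero]
      · intro h
        exact absurd (Finset.mem_univ i) h
    have := hli.fintype_card_le_finrank
    rw [Fintype.card_fin, hn] at this
    omega
  have he1 : LinearMap.range e = ⊤ := by
    rcases hx (LinearMap.range e) (by
      rintro _ ⟨v, rfl⟩
      exact ⟨(x : Module.End (ZMod p) V) v, by
        rw [← Module.End.mul_apply, ← hxe, Module.End.mul_apply]⟩) with h | h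
    · exact absurd (LinearMap.range_eq_bot.1 h) he0
    · exact h
  have hidem : ∀ f ∈ T, f = 1 := by
    intro f hf
    have htop : LinearMap.range f = ⊤ := by
      refine Submodule.eq_top_of_finrank_eq ?_
      have h1 := hmin f hf
      rw [natCard_space (p := p), natCard_space (p := p), he1, finrank_top] at h1
      have h2 := (Nat.pow_le_pow_iff_right (Fact.out : p.Prime).one_lt).1 h1
      exact le_antisymm (Submodule.finrank_le _) h2
    refine LinearMap.ext fun v => ?_
    obtain ⟨w, rfl⟩ := LinearMap.range_eq_top.1 htop v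
    rw [← Module.End.mul_apply, hf.2.2, Module.End.one_apply]
  have hinv : ∀ b ∈ B, b ≠ 0 → b ^ (q - 1) = 1 := by
    intro b hb hb0
    have h1 : b ^ (q - 1) * b = b := by rw [← pow_succ, Nat.sub_add_cancel (by omega), hpow b hb]
    refine hidem _ ⟨pow_mem hb _, fun h => hb0 ?_, ?_⟩
    · rw [← h1, h, zero_mul]
    · have h2 : q - 1 = (q - 2) + 1 := by omega
      calc b ^ (q - 1) * b ^ (q - 1) = b ^ (q - 1) * (b * b ^ (q - 2)) := by rw [h2, pow_succ']
        _ = (b ^ (q - 1) * b) * b ^ (q - 2) := by rw [mul_assoc]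
        _ = b * b ^ (q - 2) := by rw [h1]
        _ = b ^ (q - 1) := by rw [h2, pow_succ']
  haveI : NoZeroDivisors B := ⟨fun {a b} hab => by
    by_cases ha : a = 0
    · exact Or.inl ha
    refine Or.inr (Subtype.ext ?_)
    have h1 := hinv a a.2 fun h => ha (Subtype.ext h)
    have h2 : (a : Module.End (ZMod p) V) * b = 0 := congrArg Subtype.val hab
    have h3 : q - 1 = (q - 2) + 1 := by omega
    rw [ZeroMemClass.coe_zero, ← one_mul (b : Module.End (ZMod p) V), ← h1, h3, pow_succ, mul_assoc,
      h2, mul_zero]⟩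
  intro a ha
  exact Units.ext (commute_of_few_conj hn B hBcomm x hs hns hxs a fun i => hiter i _ (hgen a ha))

end CfsgLib.FgsSix.SolvableLinear
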