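import Cfsg.Agent.FgsSix.SolvableLinear.Basic

/-!
# Subspaces, coordinates and semilinear maps
-/

set_option autoImplicit false

namespace CfsgLib.FgsSix.SolvableLinear

open Module

variable {p : ℕ} [Fact p.Prime] {V : Type*} [AddCommGroup V] [Module (ZMod p) V] [Finite V]

/-- `X` permutes the subspaces of each of the dimensions `1` and `2` transitively. -/
def SubTransitive (X : Subgroup (Module.End (ZMod p) V)ˣ) : Prop :=
  ∀ W W' : Submodule (ZMod p) V, finrank (ZMod p) ↥W = finrank (ZMod p) ↥W' → finrank (ZMod p) ↥W ≤ 2 →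
    ∃ g ∈ X, W.map ((g : (Module.End (ZMod p) V)ˣ) : Module.End (ZMod p) V) = W'

variable (p V) in
/-- The subspaces of dimension `k`. -/
abbrev Grass (k : ℕ) : Type _ := {W : Submodule (ZMod p) V // finrank (ZMod p) ↥W = k}

theorem finrank_map_unit (g : (Module.End (ZMod p) V)ˣ) (W : Submodule (ZMod p) V) :
    finrank (ZMod p) ↥(W.map (g : Module.End (ZMod p) V)) = finrank (ZMod p) ↥W := by
  have hinj : Function.Injective (g : Module.End (ZMod p) V) := fun v w h => by
    have := congrArg (fun v => (↑g⁻¹ : Module.End (ZMod p) V) v) h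
    simpa [← Module.End.mul_apply] using this
  exact (Submodule.equivMapOfInjective _ hinj W).symm.finrank_eq

theorem card_grass_mul {n k : ℕ} (hn : finrank (ZMod p) V = n) (hk : k ≤ n) :
    Nat.card (Grass p V k) * (∏ i : Fin k, (p ^ k - p ^ (i : ℕ))) =
      ∏ i : Fin k, (p ^ n - p ^ (i : ℕ)) := by
  classical
  have hT := card_linearIndependent (K := ZMod p) (V := V) (k := k) (hn ▸ hk)
  rw [ZMod.card, hn] at hT
  rw [← hT]
  let T := {s : Fin k → V // LinearIndependent (ZMod p) s}
  let f : T → Grass p V k := fun s =>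
    ⟨Submodule.span (ZMod p) (Set.range s.1), by
      rw [finrank_span_eq_card s.2, Fintype.card_fin]⟩
  have hfib : ∀ W : Grass p V k, Nat.card {s : T // f s = W} =
      ∏ i : Fin k, (p ^ k - p ^ (i : ℕ)) := by
    intro W
    have hW := card_linearIndependent (K := ZMod p) (V := ↥W.1) (k := k) (le_of_eq W.2.symm)
    rw [ZMod.card, W.2] at hW
    rw [← hW]
    refine (Nat.card_eq_of_bijective (fun t : {s : Fin k → ↥W.1 // LinearIndependent (ZMod p) s} =>
      (⟨⟨fun i => (t.1 i : V), t.2.map' W.1.subtype (Submodule.ker_subtype _)⟩, ?_⟩ :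
        {s : T // f s = W})) ⟨?_, ?_⟩).symm
    · refine Subtype.ext (Submodule.eq_of_le_of_finrank_eq (Submodule.span_le.2 ?_) ?_)
      · rintro _ ⟨i, rfl⟩
        exact (t.1 i).2
      · exact ((finrank_span_eq_card (t.2.map' W.1.subtype (Submodule.ker_subtype _))).trans
          (Fintype.card_fin k)).trans W.2.symm
    · intro a b h
      refine Subtype.ext (funext fun i => Subtype.ext ?_)
      exact congrFun (congrArg (fun s : {s : T // f s = W} => s.1.1) h) i
    · rintro ⟨⟨s, hs⟩, hfs⟩
      have hmem : ∀ i, s i ∈ W.1 := fun i => by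
        rw [← hfs]
        exact Submodule.subset_span ⟨i, rfl⟩
      refine ⟨⟨fun i => ⟨s i, hmem i⟩, LinearIndependent.of_comp W.1.subtype hs⟩, rfl⟩
  haveI := Fintype.ofFinite (Grass p V k)
  show _ = Nat.card T
  rw [← Nat.card_congr (Equiv.sigmaFiberEquiv f), Nat.card_sigma]
  simp only [hfib, Finset.sum_const, Finset.card_univ, smul_eq_mul, Nat.card_eq_fintype_card]

theorem exists_grass {n k : ℕ} (hn : finrank (ZMod p) V = n) (hk : k ≤ n) : Nonempty (Grass p V k) := by
  rw [← not_isEmpty_iff]
  intro h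
  have := card_grass_mul (p := p) (V := V) hn hk
  rw [Nat.card_of_isEmpty, zero_mul] at this
  have h2 : 0 < ∏ i : Fin k, (p ^ n - p ^ (i : ℕ)) := Finset.prod_pos fun i _ => Nat.sub_pos_of_lt
    (Nat.pow_lt_pow_right (Fact.out : p.Prime).one_lt (lt_of_lt_of_le i.2 hk))
  omega

/-- A transitive group has order divisible by the number of subspaces. -/
theorem card_grass_dvd (X : Subgroup (Module.End (ZMod p) V)ˣ) (hX : SubTransitive X) {n k : ℕ}
    (hn : finrank (ZMod p) V = n) (hk : k ≤ n) (hk2 : k ≤ 2) :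
    Nat.card (Grass p V k) ∣ Nat.card X := by
  haveI := finite_end (p := p) (V := V)
  letI : MulAction X (Submodule (ZMod p) V) :=
    { smul := fun g W => W.map (((g : X) : (Module.End (ZMod p) V)ˣ) : Module.End (ZMod p) V)
      one_smul := fun W => Submodule.map_id W
      mul_smul := fun g h W => Submodule.map_comp _ _ W }
  obtain ⟨W₀⟩ := exists_grass (p := p) (V := V) hn hk
  have h : MulAction.orbit X W₀.1 = {W : Submodule (ZMod p) V | finrank (ZMod p) ↥W = k} := by
    ext W
    constructor
    · rintro ⟨g, rfl⟩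
      exact (finrank_map_unit _ _).trans W₀.2
    · intro hW
      obtain ⟨g, hg, hgW⟩ := hX W₀.1 W (W₀.2.trans hW.symm) (W₀.2.le.trans hk2)
      exact ⟨⟨g, hg⟩, hgW⟩
  have h2 : Nat.card (Grass p V k) = Nat.card ↥(MulAction.orbit X W₀.1) := by rw [h]; rfl
  rw [h2, Nat.card_congr (MulAction.orbitEquivQuotientStabilizer X W₀.1)]
  exact Subgroup.card_quotient_dvd_card _

theorem exists_orderOf_mem (X : Subgroup (Module.End (ZMod p) V)ˣ) {s : ℕ} (hs : s.Prime)
    (h : s ∣ Nat.card X) : ∃ x ∈ X, x ^ s = 1 ∧ x ≠ 1 := by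
  haveI := finite_end (p := p) (V := V)
  haveI := Fact.mk hs
  obtain ⟨⟨x, hx⟩, hord⟩ := exists_prime_orderOf_dvd_card' s h
  rw [← Subgroup.orderOf_coe] at hord
  change orderOf x = s at hord
  refine ⟨x, hx, by rw [← hord, pow_orderOf_eq_one], fun h1 => ?_⟩
  rw [h1, orderOf_one] at hord
  exact hs.ne_one hord.symm

/-- A primitive prime divisor of `p ^ n - 1` divides the order of a transitive group. -/
theorem ppd_dvd_card (X : Subgroup (Module.End (ZMod p) V)ˣ) (hX : SubTransitive X) {n r : ℕ}
    (hn : finrank (ZMod p) V = n) (hn1 : 1 < n) (hr : Ppd p r n) : r ∣ Nat.card X := by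
  have h := card_grass_mul (p := p) (V := V) (k := 1) hn (by omega)
  simp only [Fin.prod_univ_one, Fin.val_zero, pow_zero, pow_one] at h
  have h1 : r ∣ Nat.card (Grass p V 1) := by
    refine (hr.1.dvd_mul.1 (h.symm ▸ hr.dvd dvd_rfl)).resolve_right fun hd => ?_
    have h3 := hr.dvd_of_dvd (k := 1) (by rwa [pow_one])
    rw [Nat.dvd_one] at h3
    omega
  exact h1.trans (card_grass_dvd X hX hn (by omega) (by omega))

/-- A primitive prime divisor of `p ^ (n - 1) - 1` divides the order of a transitive group. -/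
theorem ppd_pred_dvd_card (X : Subgroup (Module.End (ZMod p) V)ˣ) (hX : SubTransitive X) {n r : ℕ}
    (hn : finrank (ZMod p) V = n) (hn3 : 4 ≤ n) (hr : Ppd p r (n - 1)) : r ∣ Nat.card X := by
  have h := card_grass_mul (p := p) (V := V) (k := 2) hn (by omega)
  simp only [Fin.prod_univ_two, Fin.val_zero, Fin.val_one, pow_zero, pow_one] at h
  have hp := (Fact.out : p.Prime)
  have h0 : r ∣ (p ^ n - 1) * (p ^ n - p) := by
    refine Dvd.dvd.mul_left ?_ _
    rw [show p ^ n - p = (p ^ (n - 1) - 1) * p by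
      rw [Nat.sub_mul, one_mul, ← pow_succ, Nat.sub_add_cancel (by omega : 1 ≤ n)]]
    exact (hr.dvd dvd_rfl).mul_right _
  have h1 : r ∣ Nat.card (Grass p V 2) := by
    refine (hr.1.dvd_mul.1 (h.symm ▸ h0)).resolve_right fun hd => ?_
    have hnot : ∀ k, 0 < k → k ≤ 2 → ¬ r ∣ p ^ k - 1 := fun k hk0 hk hdk => by
      have := Nat.le_of_dvd hk0 (hr.dvd_of_dvd hdk)
      omega
    rcases hr.1.dvd_mul.1 hd with hd | hd
    · exact hnot 2 (by omega) le_rfl hd
    · rw [show p ^ 2 - p = p * (p - 1) by rw [Nat.mul_sub, mul_one, sq]] at hd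
      rcases hr.1.dvd_mul.1 hd with hd | hd
      · exact hr.ne (by omega) ((Nat.prime_dvd_prime_iff_eq hr.1 hp).1 hd)
      · exact hnot 1 one_pos (by omega) (by rwa [pow_one])
  exact h1.trans (card_grass_dvd X hX hn (by omega) le_rfl)

/-- Semilinearity in the coordinates `e`. -/
def Semilinear {n : ℕ} (e : V ≃+ GaloisField p n) (g : (Module.End (ZMod p) V)ˣ) : Prop :=
  ∃ (a : GaloisField p n) (φ : GaloisField p n ≃+* GaloisField p n),
    a ≠ 0 ∧ ∀ v, e ((g : Module.End (ZMod p) V) v) = a * φ (e v)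

theorem ringEquiv_eq_pow {n : ℕ} (hn : n ≠ 0) (φ : GaloisField p n ≃+* GaloisField p n) :
    ∃ i : Fin n, ∀ x, φ x = x ^ p ^ (i : ℕ) := by
  obtain ⟨i, hi⟩ := FGS.FieldModule.exists_eq_pow_pow (p := p) (φ : GaloisField p n →+* GaloisField p n)
  refine ⟨⟨i % n, Nat.mod_lt _ (Nat.pos_of_ne_zero hn)⟩, fun x => ?_⟩
  have hx : ∀ k : ℕ, x ^ p ^ (n * k) = x := by
    haveI := Fintype.ofFinite (GaloisField p n)
    have hc : Fintype.card (GaloisField p n) = p ^ n := by
      rw [← Nat.card_eq_fintype_card, GaloisField.card p n hn]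
    intro k
    rw [pow_mul, ← hc, FiniteField.pow_card_pow]
  show φ x = x ^ p ^ (i % n)
  rw [show φ x = x ^ p ^ i from hi x]
  conv_lhs => rw [← Nat.div_add_mod i n, pow_add, pow_mul, hx]

theorem card_ringEquiv_le {n : ℕ} (hn : n ≠ 0) :
    Nat.card (GaloisField p n ≃+* GaloisField p n) ≤ n := by
  choose i hi using ringEquiv_eq_pow (p := p) hn
  have h := Nat.card_le_card_of_injective i fun φ ψ h =>
    RingEquiv.ext fun x => by rw [hi φ, hi ψ, h]
  rwa [Nat.card_fin] at h

theorem card_units_galoisField {n : ℕ} (hn : n ≠ 0) : Nat.card (GaloisField p n)ˣ = p ^ n - 1 := by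
  rw [Nat.card_units, GaloisField.card p n hn]

/-- There are at most `(p ^ n - 1) n` semilinear maps. -/
theorem card_le_of_semilinear {n : ℕ} (hn : n ≠ 0) (e : V ≃+ GaloisField p n) {T : Type*} [Finite T]
    (f : T → (Module.End (ZMod p) V)ˣ) (hf : Function.Injective f) (hT : ∀ t, Semilinear e (f t)) :
    Nat.card T ≤ (p ^ n - 1) * n := by
  choose a φ ha heq using hT
  haveI : Finite (GaloisField p n ≃+* GaloisField p n) :=
    Finite.of_injective (fun φ => (φ : GaloisField p n → GaloisField p n)) DFunLike.coe_injective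
  have h := Nat.card_le_card_of_injective
    (fun t => (Units.mk0 (a t) (ha t), φ t)) fun t t' h => hf (Units.ext (LinearMap.ext fun v =>
      e.injective (by
        rw [Prod.mk.injEq] at h
        rw [heq, heq, h.2, show a t = a t' from congrArg Units.val h.1])))
  rw [Nat.card_prod, card_units_galoisField hn] at h
  exact h.trans (Nat.mul_le_mul_left _ (card_ringEquiv_le hn))

/-- Coordinates in which the normaliser of the commutant field is semilinear. -/
theorem exists_coordinates {n r : ℕ} {x : (Module.End (ZMod p) V)ˣ}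
    (hn : finrank (ZMod p) V = n) (hn0 : n ≠ 0) (hr : Ppd p r n) (hxr : x ^ r = 1) (hx1 : x ≠ 1) :
    ∃ e : V ≃+ GaloisField p n, ∀ g : (Module.End (ZMod p) V)ˣ,
      (∀ f ∈ commutant (x : Module.End (ZMod p) V),
        (g : Module.End (ZMod p) V) * f * (↑g⁻¹ : Module.End (ZMod p) V) ∈
          commutant (x : Module.End (ZMod p) V)) →
      Semilinear e g := by
  classical
  haveI := nontrivial_space hn hn0
  haveI := finite_end (p := p) (V := V)
  have hx := irred_of_ppd hn hn0 hr hxr hx1
  obtain ⟨v₀, hv₀⟩ := exists_ne (0 : V)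
  let C := commutant (x : Module.End (ZMod p) V)
  haveI : Fintype C := Fintype.ofFinite _
  haveI := Fintype.ofFinite (GaloisField p n)
  letI := (commutant_isField hn hn0 hx).toField
  have hcard : Fintype.card C = Fintype.card (GaloisField p n) := by
    rw [← Nat.card_eq_fintype_card, ← Nat.card_eq_fintype_card, GaloisField.card p n hn0,
      card_commutant hn hn0 hr hxr hx1]
  let ι : C ≃+* GaloisField p n := FiniteField.ringEquivOfCardEq hcard
  let ev : C →+ V :=
    { toFun := fun f => (f : Module.End (ZMod p) V) v₀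
      map_zero' := rfl
      map_add' := fun _ _ => rfl }
  have hev : Function.Bijective ev := by
    refine (Nat.bijective_iff_injective_and_card _).2 ⟨eval_injective hn hn0 hx hv₀, ?_⟩
    rw [card_commutant hn hn0 hr hxr hx1, natCard_space (p := p) (W := V), hn]
  let E : C ≃+ V := AddEquiv.ofBijective ev hev
  refine ⟨E.symm.trans ι.toAddEquiv, fun g hg => ?_⟩
  let σ : C →+* C :=
    { toFun := fun f => ⟨_, hg f f.2⟩
      map_one' := Subtype.ext (by simp)
      map_mul' := fun a b => Subtype.ext (by simp [mul_assoc])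
      map_zero' := Subtype.ext (by simp)
      map_add' := fun a b => Subtype.ext (by simp [mul_add, add_mul]) }
  have hσ : Function.Bijective σ := Finite.injective_iff_bijective.1 σ.injective
  let σ' : C ≃+* C := RingEquiv.ofBijective σ hσ
  set c := E.symm ((g : Module.End (ZMod p) V) v₀) with hc
  refine ⟨ι c, (ι.symm.trans σ').trans ι, ?_, fun v => ?_⟩
  · intro h
    rw [map_eq_zero_iff _ ι.injective, hc, map_eq_zero_iff _ E.symm.injective] at h
    refine hv₀ ?_
    have := congrArg (fun v => (↑g⁻¹ : Module.End (ZMod p) V) v) h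
    simpa [← Module.End.mul_apply] using this
  · obtain ⟨d, rfl⟩ := E.surjective v
    have hkey : (g : Module.End (ZMod p) V) (E d) = E (c * σ' d) := by
      rw [mul_comm]
      show (g : Module.End (ZMod p) V) ((d : Module.End (ZMod p) V) v₀) =
        (((σ d : C) : Module.End (ZMod p) V)) ((c : Module.End (ZMod p) V) v₀)
      have h1 : (c : Module.End (ZMod p) V) v₀ = (g : Module.End (ZMod p) V) v₀ :=
        E.apply_symm_apply _
      rw [h1]
      show _ = ((g : Module.End (ZMod p) V) * (d : Module.End (ZMod p) V) * (↑g⁻¹ : Module.End (ZMod p) V))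
        ((g : Module.End (ZMod p) V) v₀)
      rw [← Module.End.mul_apply, ← Module.End.mul_apply, Units.inv_mul_cancel_right]
    show ι (E.symm ((g : Module.End (ZMod p) V) (E d))) = ι c * ι (σ' (ι.symm (ι (E.symm (E d)))))
    rw [hkey]
    simp

end CfsgLib.FgsSix.SolvableLinear
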